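import Cfsg.Agent.Sigma.Support
import Cfsg.Agent.Sigma.SupportCount
import Cfsg.Agent.Sigma.KappaStructure
import Cfsg.Agent.S1426

/-!
B&G 15.1: the place of `M_σ`, `M'` and `M_F` in a maximal subgroup.
-/

set_option autoImplicit false
set_option linter.unusedSectionVars false
set_option linter.style.haveILetI false

namespace CfsgLib.BGFifteen

open CfsgLib.BenderUnique CfsgLib.Uniq CfsgLib.SigmaGroups
open scoped commutatorElement

universe u

variable {G : Type u} [Group G] [Finite G] {M E K : Subgroup G}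

theorem exists_complement (hG : Cfsg.IsMinSimpleOddOrder G) (hM : IsCoatom M) :
    ∃ E : Subgroup G, Cfsg.IsComplIn E (Cfsg.sigmaCore M) M := by
  obtain ⟨E, -, hE⟩ := exists_complement_ge hG hM (Y := (⊥ : Subgroup G)) bot_le fun t ht hd => by
    rw [Subgroup.card_bot] at hd
    exact absurd hd ht.not_dvd_one
  exact ⟨E, hE⟩

theorem sigmaCore_le_derived (hG : Cfsg.IsMinSimpleOddOrder G) (hM : IsCoatom M) :
    Cfsg.sigmaCore M ≤ ⁅M, M⁆ := by
  obtain ⟨E, hE⟩ := exists_complement hG hM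
  conv_lhs => rw [← commutator_sigma_complement hG hM hE]
  exact Subgroup.commutator_mono (Subgroup.map_subtype_le _) hE.1

theorem derived_lt (hG : Cfsg.IsMinSimpleOddOrder G) (hM : IsCoatom M) : ⁅M, M⁆ < M := by
  haveI := isSolvable_of_ne_top hG hM.1
  refine lt_of_le_of_ne (Subgroup.commutator_le_self M) fun he => ?_
  have hM1 : M ≠ ⊥ := fun h => sigmaCore_ne_bot hG hM (le_bot_iff.1 ((Subgroup.map_subtype_le _).trans h.le))
  haveI : Nontrivial ↥M := (Subgroup.nontrivial_iff_ne_bot M).2 hM1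
  have h1 : commutator ↥M ≠ ⊤ := (Group.IsSolvable.commutator_lt_top_of_nontrivial ↥M).ne
  refine h1 (Subgroup.map_injective M.subtype_injective ?_)
  rw [Subgroup.map_subtype_commutator, he, ← MonoidHom.range_eq_map, M.range_subtype]

/-- When every prime outside `σ(M)` lies in `κ(M)`, a complement of `M_σ` is a Hall `κ(M)`-subgroup. -/
theorem hall_kappa_of_all (hG : Cfsg.IsMinSimpleOddOrder G) (hM : IsCoatom M)
    (hE : Cfsg.IsComplIn E (Cfsg.sigmaCore M) M)
    (hall : ∀ q : ℕ, q.Prime → q ∣ Nat.card M → q ∉ Cfsg.sigma M → q ∈ Cfsg.kappa M) :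
    Cfsg.IsPiHallOf (Cfsg.kappa M) E M := by
  have h := hallOf_of_isComplIn hG hM hE
  exact ⟨hE.1, fun t ht hd => hall t ht (hd.trans (Subgroup.card_dvd_of_le hE.1)) (h.2.1 t ht hd).2,
    fun t ht hk => h.2.2 t ht ⟨ht, hk.2.2.1⟩⟩

/-- Without nilpotence of `M_σ`, every prime outside `σ(M)` lies in `κ(M)`. -/
theorem kappa_of_not_nilpotent (hG : Cfsg.IsMinSimpleOddOrder G) (hM : IsCoatom M)
    (hn : ¬ Group.IsNilpotent (Cfsg.sigmaCore M)) {q : ℕ} (hq : q.Prime) (hqM : q ∣ Nat.card M)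
    (hqs : q ∉ Cfsg.sigma M) : q ∈ Cfsg.kappa M := by
  by_contra hk
  haveI := Fact.mk hq
  obtain ⟨S⟩ : Nonempty (Sylow q ↥M) := inferInstance
  exact hn (omega_structure hG hM hqM hqs hk (S := S) rfl).2.2

theorem fittingHall_nilpotent (X : Type*) [Group X] [Finite X] : Group.IsNilpotent ↥(Cfsg.fittingHall X) := by
  have hle : Cfsg.fittingHall X ≤ Cfsg.fittingSubgroup X :=
    sSup_le fun N hN => CfsgLib.Components.le_fittingSubgroup hN.1 hN.2.1
  haveI := CfsgLib.Components.fittingSubgroup_isNilpotent (G := X)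
  exact Group.nilpotent_of_mulEquiv (Subgroup.subgroupOfEquivOfLe hle)

theorem fittingHallOf_eq_iff (hG : Cfsg.IsMinSimpleOddOrder G) (hM : IsCoatom M) :
    Cfsg.fittingHallOf M = Cfsg.sigmaCore M ↔ Group.IsNilpotent (Cfsg.sigmaCore M) := by
  refine ⟨fun h => ?_, fun h => le_antisymm (fittingHallOf_le_sigmaCore hG hM) (sigmaCore_le_fittingHallOf hG hM h)⟩
  rw [← h, Cfsg.fittingHallOf]
  haveI : Group.IsNilpotent ↥(Cfsg.fittingHall ↥M) := fittingHall_nilpotent ↥M
  exact Group.nilpotent_of_mulEquiv (Subgroup.equivMapOfInjective (Cfsg.fittingHall ↥M) _ M.subtype_injective)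

/-- With `M_σ` nilpotent, `M' / M_σ` is nilpotent. -/
theorem derived_mod_nilpotent (hG : Cfsg.IsMinSimpleOddOrder G) (hM : IsCoatom M)
    (hn : Group.IsNilpotent (Cfsg.sigmaCore M)) :
    Group.IsNilpotent ↥((commutator ↥M).map (QuotientGroup.mk' (Cfsg.fittingHall ↥M))) := by
  obtain ⟨E, hE⟩ := exists_complement hG hM
  haveI := derived_nilpotent_complement hG hM hE
  set φ := QuotientGroup.mk' (Cfsg.fittingHall ↥M) with hφ
  set E' : Subgroup ↥M := (⁅E, E⁆).subgroupOf M with hE'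
  have hEM : ⁅E, E⁆ ≤ M := (Subgroup.commutator_le_self E).trans hE.1
  haveI : Group.IsNilpotent ↥E' := Group.nilpotent_of_mulEquiv (Subgroup.subgroupOfEquivOfLe hEM).symm
  have hker : (Cfsg.sigmaCore M).subgroupOf M ≤ φ.ker := by
    rw [hφ, QuotientGroup.ker_mk']
    intro x hx
    have h2 : (x : G) ∈ Cfsg.fittingHallOf M :=
      (fittingHallOf_eq_iff hG hM).2 hn ▸ Subgroup.mem_subgroupOf.1 hx
    obtain ⟨y, hy, hxy⟩ := h2
    rwa [← M.subtype_injective hxy]
  have hle : (commutator ↥M).map φ ≤ E'.map φ := by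
    rintro _ ⟨x, hx, rfl⟩
    have hxM : (x : G) ∈ ⁅M, M⁆ := by
      rw [← Subgroup.map_subtype_commutator]
      exact ⟨x, hx, rfl⟩
    have hEn : ⁅E, E⁆ ≤ Subgroup.normalizer (Cfsg.sigmaCore M : Set G) :=
      hEM.trans (le_normalizer_sigmaCore M)
    obtain ⟨e, he, s, hs, hes⟩ := CoprimeAction.exists_mul_of_mem_sup hEn (commutator_le_sup hE hxM)
    have hsM : s ∈ M := Subgroup.map_subtype_le _ hs
    refine ⟨⟨e, hEM he⟩, he, ?_⟩
    have h3 : φ ⟨s, hsM⟩ = 1 := hker (Subgroup.mem_subgroupOf.2 hs)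
    rw [show x = ⟨e, hEM he⟩ * ⟨s, hsM⟩ from Subtype.ext hes.symm, map_mul, h3, mul_one]
  haveI : Group.IsNilpotent ↥(E'.map φ) :=
    Group.nilpotent_of_surjective (φ.subgroupMap E') (φ.subgroupMap_surjective E')
  exact Group.nilpotent_of_mulEquiv (Subgroup.subgroupOfEquivOfLe hle)

end CfsgLib.BGFifteen
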