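import Cfsg.Agent.BGFifteen.Basic
import Cfsg.Agent.PrimeAction.Fitting
import Cfsg.Agent.CoprimeAction.Basic
import Cfsg.Agent.ZJ.Fpf

/-!
A coprime operator of prime order whose fixed points have prime order `q`: either it misses the Fitting
subgroup or a normal Sylow `q`-subgroup has nilpotent quotient.
-/

set_option autoImplicit false
set_option linter.unusedSectionVars false
set_option linter.style.haveILetI false

namespace CfsgLib.BGFifteen

open scoped commutatorElement

universe u

variable {X : Type u} [Group X] [Finite X] {p q : ℕ} [hp : Fact p.Prime] [hq : Fact q.Prime]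

theorem mem_pCore_of_nilpotent {N : Type u} [Group N] [Finite N] [Group.IsNilpotent N] {z : N}
    (hz : orderOf z = q) : z ∈ Cfsg.pCore q N := by
  have hzp : IsPGroup q (Subgroup.zpowers z) := IsPGroup.of_card (n := 1) (by rw [Nat.card_zpowers, hz, pow_one])
  obtain ⟨S, hS⟩ := hzp.exists_le_sylow
  have hiff := (Group.isNilpotent_of_finite_tfae (G := N)).out 0 3
  have hn : (S : Subgroup N).Normal := hiff.1 (inferInstance : Group.IsNilpotent N) q inferInstance S
  exact CfsgLib.Components.le_pCore hn S.isPGroup' (hS (Subgroup.mem_zpowers z))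

/-- The normal Sylow subgroup. -/
theorem exists_normal_sylow [Group.IsSolvable X] {H R : Subgroup X} [H.Normal] (hR : Nat.card R = p)
    (hcop : (Nat.card H).Coprime p) (hC : Nat.card ↥(H ⊓ Subgroup.centralizer (R : Set X)) = q)
    (hF : Cfsg.fittingOf H ⊓ Subgroup.centralizer (R : Set X) ≠ ⊥) :
    ∃ Q : Subgroup X, ∃ _ : Q.Normal, Q ≤ H ∧ IsPGroup q Q ∧ Q ≠ ⊥ ∧ ¬ q ∣ Q.relIndex H ∧
      H ⊓ Subgroup.centralizer (R : Set X) ≤ Q ∧ Group.IsNilpotent ↥(H.map (QuotientGroup.mk' Q)) := by
  set F := Cfsg.fittingOf H with hFdef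
  haveI hFn : F.Normal := CfsgLib.PrimeAction.fittingOf_normal H
  haveI hFnil : Group.IsNilpotent ↥F := CfsgLib.PrimeAction.fittingOf_nilpotent H
  have hFH : F ≤ H := Subgroup.map_subtype_le _
  set C := H ⊓ Subgroup.centralizer (R : Set X) with hCdef
  have hCF : C ≤ F := by
    have hle : F ⊓ Subgroup.centralizer (R : Set X) ≤ C := inf_le_inf_right _ hFH
    have h := Subgroup.card_dvd_of_le hle
    rw [hC] at h
    rcases (Nat.dvd_prime hq.out).1 h with h1 | h1
    · exact absurd (Subgroup.card_eq_one.1 h1) hF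
    · exact (Subgroup.eq_of_le_of_card_ge hle (by rw [hC, h1])).ge.trans inf_le_left
  set Q := (Cfsg.pCore q ↥F).map F.subtype with hQdef
  haveI hQn : Q.Normal := by
    haveI : (Cfsg.pCore q ↥F).Characteristic := CfsgLib.Components.pCore_characteristic q
    exact ConjAct.normal_of_characteristic_of_normal
  have hQH : Q ≤ H := (Subgroup.map_subtype_le _).trans hFH
  have hQq : IsPGroup q Q := (CfsgLib.Components.pCore_isPGroup q).map F.subtype
  obtain ⟨z, hz⟩ : ∃ z : C, orderOf z = q :=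
    exists_prime_orderOf_dvd_card' q (by rw [hC])
  have hzQ : (z : X) ∈ Q := ⟨⟨z, hCF z.2⟩, mem_pCore_of_nilpotent (by rw [Subgroup.orderOf_mk, Subgroup.orderOf_coe, hz]), rfl⟩
  have hCQ : C ≤ Q := by
    have hzc : Subgroup.zpowers (z : X) = C := Subgroup.eq_of_le_of_card_ge (Subgroup.zpowers_le.2 z.2)
      (by rw [Nat.card_zpowers, Subgroup.orderOf_coe, hz, hC])
    rw [← hzc]
    exact Subgroup.zpowers_le.2 hzQ
  have hQ1 : Q ≠ ⊥ := fun h => hq.out.one_lt.ne (by
    have : (z : X) = 1 := Subgroup.mem_bot.1 (h ▸ hzQ)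
    rw [← hz, show z = 1 from Subtype.ext this, orderOf_one])
  set π := QuotientGroup.mk' Q with hπ
  set H' := H.map π with hH'
  haveI hH'n : H'.Normal := (inferInstance : H.Normal).map π (QuotientGroup.mk'_surjective Q)
  obtain ⟨r, hr⟩ : ∃ r : R, orderOf r = p := exists_prime_orderOf_dvd_card' p (by rw [hR])
  have hrR : Subgroup.zpowers (r : X) = R := Subgroup.eq_of_le_of_card_ge (Subgroup.zpowers_le.2 r.2)
    (by rw [Nat.card_zpowers, Subgroup.orderOf_coe, hr, hR])
  -- no fixed point on the quotient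
  have hfix : ∀ h ∈ H, π (r : X) * π h * (π (r : X))⁻¹ = π h → h ∈ Q := by
    intro h hh he
    have hcopQ : (Nat.card R).Coprime (Nat.card Q) := by
      rw [hR]
      exact (hcop.coprime_dvd_left (Subgroup.card_dvd_of_le hQH)).symm
    haveI : IsCyclic R := isCyclic_of_prime_card hR
    obtain ⟨n, hn, hc⟩ := CfsgLib.CoprimeAction.exists_mem_centralizer (A := R) (N := Q)
      (Subgroup.normalizer_eq_top (H := Q) ▸ le_top) hcopQ
      (Or.inl (by letI : CommGroup R := IsCyclic.commGroup; infer_instance)) (k := h) fun a ha => by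
        obtain ⟨i, rfl⟩ := Subgroup.mem_zpowers_iff.1 (hrR.symm.le ha)
        have hcomm : Commute (π (r : X)) (π h) := mul_inv_eq_iff_eq_mul.1 he
        rw [← QuotientGroup.eq_one_iff]
        show π ((r : X) ^ i * h * ((r : X) ^ i)⁻¹ * h⁻¹) = 1
        rw [map_mul, map_mul, map_mul, map_inv, map_inv, map_zpow, (hcomm.zpow_left i).eq, mul_inv_cancel_right,
          mul_inv_cancel]
    have h1 : n * h ∈ Q := hCQ (Subgroup.mem_inf.2 ⟨mul_mem (hQH hn) hh, hc⟩)
    exact (Subgroup.mul_mem_cancel_left _ hn).1 h1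
  -- the automorphism of `H / Q`
  set α : MulAut ↥H' := MulAut.conjNormal (π (r : X)) with hα
  have hαp : α ^ p = 1 := by
    rw [hα, ← map_pow, ← map_pow, show (r : X) ^ p = 1 from by
      rw [← hr, ← Subgroup.orderOf_coe, pow_orderOf_eq_one], map_one, map_one]
  have hfree : MonoidHom.FixedPointFree (α : ↥H' → ↥H') := by
    rintro ⟨x, h, hh, rfl⟩ he
    have he' : π (r : X) * π h * (π (r : X))⁻¹ = π h := congrArg Subtype.val he
    exact Subtype.ext ((QuotientGroup.eq_one_iff h).2 (hfix h hh he'))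
  have hnil : Group.IsNilpotent ↥H' := CfsgLib.ZJ.isNilpotent_of_fixedPointFree hp.out hfree hαp
  refine ⟨Q, hQn, hQH, hQq, hQ1, fun hd => ?_, hCQ, hnil⟩
  -- a nontrivial `q`-part of `H / Q` would enlarge `Q`
  haveI := hnil
  have hcard : Nat.card ↥H' = Q.relIndex H := by
    rw [hH', ← Subgroup.relIndex_bot_left, ← Subgroup.relIndex_comap, MonoidHom.comap_bot, hπ, QuotientGroup.ker_mk']
  obtain ⟨w, hw⟩ := exists_prime_orderOf_dvd_card' (G := ↥H') q (hcard ▸ hd)
  set P := (Cfsg.pCore q ↥H').map H'.subtype with hP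
  haveI hPn : P.Normal := by
    haveI : (Cfsg.pCore q ↥H').Characteristic := CfsgLib.Components.pCore_characteristic q
    exact ConjAct.normal_of_characteristic_of_normal
  set L := P.comap π with hL
  haveI : L.Normal := Subgroup.normal_comap π
  have hLq : IsPGroup q L := IsPGroup.comap_of_ker_isPGroup ((CfsgLib.Components.pCore_isPGroup q).map _) π
    (by rw [hπ, QuotientGroup.ker_mk']; exact hQq)
  have hLH : L ≤ H := by
    have h := Subgroup.comap_mono (f := π) (Subgroup.map_subtype_le (Cfsg.pCore q ↥H'))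
    rw [hH', Subgroup.comap_map_eq, hπ, QuotientGroup.ker_mk', sup_eq_left.2 hQH] at h
    exact h
  haveI : Group.IsNilpotent ↥L := hLq.isNilpotent
  have hLF : L ≤ F := CfsgLib.PrimeAction.le_fittingOf hLH inferInstance inferInstance
  have hLQ : L ≤ Q := by
    intro x hx
    have hsub : L.subgroupOf F ≤ Cfsg.pCore q ↥F :=
      CfsgLib.Components.le_pCore inferInstance (hLq.of_equiv (Subgroup.subgroupOfEquivOfLe hLF).symm)
    exact ⟨⟨x, hLF hx⟩, hsub hx, rfl⟩
  obtain ⟨x, hx⟩ := QuotientGroup.mk'_surjective Q (w : X ⧸ Q)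
  have hxL : x ∈ L := by
    show π x ∈ P
    rw [hπ, hx]
    exact ⟨w, mem_pCore_of_nilpotent hw, rfl⟩
  have h1 : (w : X ⧸ Q) = 1 := hx ▸ (QuotientGroup.eq_one_iff x).2 (hLQ hxL)
  rw [show w = 1 from Subtype.ext h1, orderOf_one] at hw
  exact hq.out.one_lt.ne hw

end CfsgLib.BGFifteen
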