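import Cfsg.Agent.BGFifteen.KappaCore
import Cfsg.Agent.Sigma.KappaDecomp
import Cfsg.Agent.Hall.DPiDirect
import Cfsg.Agent.S1420

/-!
B&G 15.2: the Fitting subgroup of a maximal subgroup is `C_M(M_F) M_F`.
-/

set_option autoImplicit false
set_option linter.unusedSectionVars false
set_option linter.style.haveILetI false

namespace CfsgLib.BGFifteen

open CfsgLib.BenderUnique CfsgLib.Uniq CfsgLib.SigmaGroups
open scoped commutatorElement

universe u

variable {G : Type u} [Group G] [Finite G] {M K U : Subgroup G}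

theorem relIndex_dvd_of_normal {W J M : Subgroup G} (hn : M ≤ Subgroup.normalizer (J : Set G)) (hW : W ≤ M) :
    J.relIndex W ∣ J.relIndex M := by
  haveI : (J.subgroupOf M).Normal := Subgroup.normal_subgroupOf_of_le_normalizer hn
  rw [← Subgroup.relIndex_subgroupOf hW]
  exact Subgroup.relIndex_dvd_index_of_normal _ _

theorem exists_decomp_any (hG : Cfsg.IsMinSimpleOddOrder G) (hM : IsCoatom M) :
    ∃ K U : Subgroup G, Cfsg.IsSigmaDecomposition M K U := by
  haveI := isSolvable_of_ne_top hG hM.1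
  obtain ⟨K, -, hK, -⟩ := exists_hall_over (π := Cfsg.kappa M) (bot_le : (⊥ : Subgroup G) ≤ M)
    fun t ht hd => absurd ((Subgroup.card_bot (G := G)) ▸ hd) ht.not_dvd_one
  obtain ⟨U, hU⟩ := exists_decomp hG hM (isCyclic_kappa_hall hG hM hK) hK
  exact ⟨K, U, hU⟩

theorem le_normalizer_fittingHallOf (M : Subgroup G) :
    M ≤ Subgroup.normalizer (Cfsg.fittingHallOf M : Set G) :=
  PReduced.le_normalizer_map_subtype M (Cfsg.fittingHall ↥M)

/-- No `κ`-prime divides the order of `C_M(M_F)`. -/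
theorem not_kappa_of_centralizer (hG : Cfsg.IsMinSimpleOddOrder G) (hM : IsCoatom M) {t : ℕ} (ht : t.Prime)
    (hd : t ∣ Nat.card ↥(M ⊓ Subgroup.centralizer (Cfsg.fittingHallOf M : Set G))) : t ∉ Cfsg.kappa M := by
  intro hk
  haveI := Fact.mk ht
  haveI := isSolvable_of_ne_top hG hM.1
  obtain ⟨y, hy, hyo⟩ := exists_elem_prime (p := t) hd
  obtain ⟨K, -, hK, hconj⟩ := exists_hall_over (π := Cfsg.kappa M) (bot_le : (⊥ : Subgroup G) ≤ M)
    fun t ht hd => absurd ((Subgroup.card_bot (G := G)) ▸ hd) ht.not_dvd_one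
  obtain ⟨a, ha, hle⟩ := hconj (Subgroup.zpowers y) (Subgroup.zpowers_le.2 hy.1) fun s hs hd' => by
    rw [Nat.card_zpowers, hyo] at hd'
    exact (Nat.prime_dvd_prime_iff_eq hs ht).1 hd' ▸ hk
  set X := (Subgroup.zpowers y).map (MulAut.conj a).toMonoidHom with hX
  have hXc : Nat.card X = t := by
    rw [hX, Subgroup.card_map_of_injective (MulAut.conj a).injective, Nat.card_zpowers, hyo]
  have hK1 : K ≠ ⊥ := fun h => by
    have := Subgroup.card_dvd_of_le (hle.trans h.le)
    rw [hXc, Subgroup.card_bot] at this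
    exact ht.not_dvd_one this
  obtain ⟨U, hU⟩ := exists_decomp hG hM (isCyclic_kappa_hall hG hM hK) hK
  obtain ⟨hcyc, -, -, hnc⟩ := kappa_star_in_fittingHall hG hM hU hK1
  refine hnc ?_
  haveI := hcyc
  refine Subgroup.isCyclic_of_le (H' := Cfsg.sigmaCore M ⊓ Subgroup.centralizer (K : Set G)) ?_
  rw [← ((decomp_kappa_structure hG hM hU hK1).2 X hle (by rw [hXc]; exact ht)).1]
  refine le_inf (fittingHallOf_le_sigmaCore hG hM) (Subgroup.le_centralizer_iff.1 ?_)
  rintro _ ⟨z, hz, rfl⟩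
  rw [Subgroup.mem_centralizer_iff]
  intro h hh
  have h1 : a⁻¹ * h * a ∈ Cfsg.fittingHallOf M :=
    (Subgroup.mem_normalizer_iff''.1 (le_normalizer_fittingHallOf M ha) h).1 hh
  have h2 := Subgroup.mem_centralizer_iff.1 hy.2 _ h1
  have h3 : Commute (a⁻¹ * h * a) z := by
    obtain ⟨i, rfl⟩ := Subgroup.mem_zpowers_iff.1 hz
    exact (show Commute (a⁻¹ * h * a) y from h2).zpow_right i
  show h * (a * z * a⁻¹) = a * z * a⁻¹ * h
  calc h * (a * z * a⁻¹) = a * ((a⁻¹ * h * a) * z) * a⁻¹ := by group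
    _ = a * (z * (a⁻¹ * h * a)) * a⁻¹ := by rw [h3.eq]
    _ = a * z * a⁻¹ * h := by group

theorem le_normalizer_centralizer (M : Subgroup G) :
    M ≤ Subgroup.normalizer
      ((M ⊓ Subgroup.centralizer (Cfsg.fittingHallOf M : Set G) : Subgroup G) : Set G) := by
  rw [Subgroup.le_normalizer_iff]
  refine fun m hm c hc => ⟨M.mul_mem (M.mul_mem hm hc.1) (M.inv_mem hm), Subgroup.mem_centralizer_iff.2 fun h hh => ?_⟩
  have h1 : m⁻¹ * h * m ∈ Cfsg.fittingHallOf M :=
    (Subgroup.mem_normalizer_iff''.1 (le_normalizer_fittingHallOf M hm) h).1 hh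
  have h2 := Subgroup.mem_centralizer_iff.1 hc.2 _ h1
  calc h * (m * c * m⁻¹) = m * ((m⁻¹ * h * m) * c) * m⁻¹ := by group
    _ = m * (c * (m⁻¹ * h * m)) * m⁻¹ := by rw [h2]
    _ = m * c * m⁻¹ * h := by group

theorem centralizer_le_sup (hG : Cfsg.IsMinSimpleOddOrder G) (hM : IsCoatom M)
    (hKU : Cfsg.IsSigmaDecomposition M K U) :
    M ⊓ Subgroup.centralizer (Cfsg.fittingHallOf M : Set G) ≤ U ⊔ Cfsg.sigmaCore M := by
  obtain ⟨hE, hU⟩ := decomp_complement_card hG hM hKU
  refine le_of_prime_relIndex fun t ht hd hdi => ?_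
  have hdM := hdi.trans (relIndex_dvd_of_normal (decomp_sup_normal hG hM hKU) inf_le_left)
  have hk := not_kappa_of_centralizer hG hM ht hd
  by_cases hs : t ∈ Cfsg.sigma M
  · exact (sigmaCore_hallOf hG hM).2.2 t ht hs (hdM.trans (Subgroup.relIndex_dvd_of_le_left M le_sup_right))
  · exact hU.2.2 t ht ⟨ht, hk, hs⟩ (hdM.trans (Subgroup.relIndex_dvd_of_le_left M le_sup_left))

theorem centralizer_commutative (hG : Cfsg.IsMinSimpleOddOrder G) (hM : IsCoatom M)
    (hn : Group.IsNilpotent (Cfsg.sigmaCore M)) :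
    IsMulCommutative ↥(M ⊓ Subgroup.centralizer (Cfsg.fittingHallOf M : Set G)) := by
  rw [(fittingHallOf_eq_iff hG hM).2 hn]
  obtain ⟨K, U, hKU⟩ := exists_decomp_any hG hM
  obtain ⟨hE, hU⟩ := decomp_complement_card hG hM hKU
  obtain ⟨A₀, -, -, hA₀, hA₀x⟩ := exists_fixed_cover hG hM hKU
  obtain ⟨x, hx, hx1⟩ := (Subgroup.bot_or_exists_ne_one _).resolve_left (sigmaCore_ne_bot hG hM)
  set H := Cfsg.sigmaCore M with hH
  have hXA : (K ⊔ U) ⊓ Subgroup.centralizer (H : Set G) ≤ A₀ := by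
    have hXU : (K ⊔ U) ⊓ Subgroup.centralizer (H : Set G) ≤ U := le_of_prime_relIndex fun t ht hd hdi => by
      refine hU.2.2 t ht ⟨ht, ?_, fun hs => not_dvd_card_complement hG hM hE ht hs
        (hd.trans (Subgroup.card_dvd_of_le inf_le_left))⟩
        (hdi.trans ((relIndex_dvd_of_normal (sup_le hKU.normal Subgroup.le_normalizer) inf_le_left).trans
          (Dvd.intro _ (Subgroup.relIndex_mul_relIndex U (K ⊔ U) M le_sup_right hE.1))))
      refine not_kappa_of_centralizer hG hM ht (hd.trans (Subgroup.card_dvd_of_le ?_))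
      rw [(fittingHallOf_eq_iff hG hM).2 hn]
      exact inf_le_inf_right _ hE.1
    exact fun e he => hA₀x x hx hx1 ⟨hXU he,
      Subgroup.mem_centralizer_singleton_iff.2 (Subgroup.mem_centralizer_iff.1 he.2 x hx).symm⟩
  -- every element splits
  have hsplit : ∀ c ∈ M ⊓ Subgroup.centralizer (H : Set G),
      ∃ e ∈ A₀ ⊓ Subgroup.centralizer (H : Set G), ∃ s ∈ H ⊓ Subgroup.centralizer (H : Set G), c = e * s := by
    rintro c ⟨hcM, hcC⟩
    obtain ⟨e, he, s, hs, rfl⟩ := hE.2.2.2 c hcM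
    have hcs' : Commute (e * s) s := (Subgroup.mem_centralizer_iff.1 hcC s hs).symm
    have hcs : Commute (e * s) s⁻¹ := hcs'.inv_right
    have hes : e ^ Nat.card H ∈ Subgroup.centralizer (H : Set G) := by
      have h : e ^ Nat.card H = (e * s) ^ Nat.card H := by
        conv_lhs => rw [show e = e * s * s⁻¹ by group, hcs.mul_pow]
        rw [orderOf_dvd_iff_pow_eq_one.1 (show orderOf s⁻¹ ∣ Nat.card H from
          Subgroup.orderOf_dvd_natCard H (inv_mem hs)), mul_one]
      exact h ▸ pow_mem hcC _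
    have hcop : (orderOf e).Coprime (Nat.card H) := Nat.coprime_of_dvd fun t ht h1 h2 =>
      not_dvd_card_complement hG hM hE ht (mem_sigma_of_dvd M ht h2)
        (h1.trans (Subgroup.orderOf_dvd_natCard _ he))
    obtain ⟨m, hm⟩ := exists_pow_eq_self_of_coprime hcop.symm
    have heC : e ∈ Subgroup.centralizer (H : Set G) := hm ▸ pow_mem hes m
    exact ⟨e, ⟨hXA ⟨he, heC⟩, heC⟩, s, ⟨hs, (Subgroup.mul_mem_cancel_left _ heC).1 hcC⟩, rfl⟩
  refine ⟨⟨fun a b => ?_⟩⟩
  obtain ⟨e, he, s, hs, hes⟩ := hsplit a a.2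
  obtain ⟨f, hf, r, hr, hfr⟩ := hsplit b b.2
  have h1 : Commute e f := setLike_mul_comm he.1 hf.1
  have h2 : Commute e r := (Subgroup.mem_centralizer_iff.1 he.2 r hr.1).symm
  have h3 : Commute s f := Subgroup.mem_centralizer_iff.1 hf.2 s hs.1
  have h4 : Commute s r := Subgroup.mem_centralizer_iff.1 hr.2 s hs.1
  apply Subtype.ext
  show (a : G) * b = b * a
  rw [hes, hfr]
  exact ((h1.mul_right h2).mul_left (h3.mul_right h4)).eq

theorem centralizer_nilpotent (hG : Cfsg.IsMinSimpleOddOrder G) (hM : IsCoatom M) :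
    Group.IsNilpotent ↥(M ⊓ Subgroup.centralizer (Cfsg.fittingHallOf M : Set G)) := by
  set C := M ⊓ Subgroup.centralizer (Cfsg.fittingHallOf M : Set G) with hC
  by_cases hn : Group.IsNilpotent (Cfsg.sigmaCore M)
  · haveI := centralizer_commutative hG hM hn
    letI : CommGroup ↥(M ⊓ Subgroup.centralizer (Cfsg.fittingHallOf M : Set G)) :=
      { (inferInstance : Group ↥(M ⊓ Subgroup.centralizer (Cfsg.fittingHallOf M : Set G))) with
        mul_comm := fun a b => mul_comm' a b }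
    infer_instance
  obtain ⟨E, hE⟩ := exists_complement hG hM
  obtain ⟨hK, -, -, hq, Q, hQn, -, -, hQq, hQi, -, hnil⟩ := core_of_not_nilpotent hG hM hn hE
  have hCσ : C ≤ Cfsg.sigmaCore M := le_of_prime_relIndex fun t ht hd hdi => by
    have hdM := hdi.trans (relIndex_dvd_of_normal (le_normalizer_sigmaCore M) inf_le_left)
    by_cases hs : t ∈ Cfsg.sigma M
    · exact (sigmaCore_hallOf hG hM).2.2 t ht hs hdM
    · exact not_kappa_of_centralizer hG hM ht hd
        (kappa_of_not_nilpotent hG hM hn ht (hd.trans (Subgroup.card_dvd_of_le inf_le_left)) hs)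
  set C₀ := C.subgroupOf M with hC₀
  let f : ↥C₀ →* ↥(((Cfsg.sigmaCore M).subgroupOf M).map (QuotientGroup.mk' Q)) :=
    ((QuotientGroup.mk' Q).subgroupMap ((Cfsg.sigmaCore M).subgroupOf M)).comp
      (Subgroup.inclusion fun x hx => hCσ hx)
  have hker : f.ker ≤ Subgroup.center ↥C₀ := by
    intro c hc
    have hcQ : ((c : ↥M)) ∈ Q := (QuotientGroup.eq_one_iff (c : ↥M)).1 (congrArg Subtype.val hc)
    have hcF : ((c : ↥M) : G) ∈ Cfsg.fittingHallOf M :=
      ⟨c, sylow_le_fittingHall hq hQn hQq hQi hcQ, rfl⟩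
    rw [Subgroup.mem_center_iff]
    intro d
    exact Subtype.ext (Subtype.ext (Subgroup.mem_centralizer_iff.1 (Subgroup.mem_subgroupOf.1 d.2).2 _ hcF).symm)
  haveI := hnil
  haveI : Group.IsNilpotent ↥C₀ := Subgroup.isNilpotent_of_ker_le_center f hker
  exact Group.nilpotent_of_mulEquiv (Subgroup.subgroupOfEquivOfLe inf_le_left)

/-- B&G 15.2: `F(M) = C_M(M_F) M_F`. -/
theorem fitting_eq (hG : Cfsg.IsMinSimpleOddOrder G) (hM : IsCoatom M) :
    Cfsg.fittingOf M = (M ⊓ Subgroup.centralizer (Cfsg.fittingHallOf M : Set G)) ⊔ Cfsg.fittingHallOf M := by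
  set H := Cfsg.fittingHallOf M with hH
  set C := M ⊓ Subgroup.centralizer (H : Set G) with hC
  have hHM : H ≤ M := Subgroup.map_subtype_le _
  haveI := fittingHall_nilpotent ↥M
  have hHF : H ≤ Cfsg.fittingOf M := le_fittingOf hHM (le_normalizer_fittingHallOf M)
    (Group.nilpotent_of_mulEquiv (Subgroup.equivMapOfInjective (Cfsg.fittingHall ↥M) _ M.subtype_injective))
  refine le_antisymm ?_ (sup_le (le_fittingOf inf_le_left (le_normalizer_centralizer M)
    (centralizer_nilpotent hG hM)) hHF)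
  have hFM : Cfsg.fittingOf M ≤ M := Subgroup.map_subtype_le _
  haveI : Group.IsNilpotent ↥(Cfsg.fittingOf M) := by
    haveI := CfsgLib.Components.fittingSubgroup_isNilpotent (G := ↥M)
    exact Group.nilpotent_of_mulEquiv (Subgroup.equivMapOfInjective (Cfsg.fittingSubgroup ↥M) _ M.subtype_injective)
  refine le_of_prime_subgroups fun t ht T hT hTF => ?_
  haveI := Fact.mk ht
  by_cases hd : t ∣ Nat.card H
  · refine le_sup_of_le_right (le_of_prime_relIndex fun s hs hds hdi => ?_)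
    have hdM := hdi.trans (relIndex_dvd_of_normal (le_normalizer_fittingHallOf M) (hTF.trans hFM))
    have hst : s = t := primes_of_pgroup ht hT s hs hds
    rw [hH, Cfsg.fittingHallOf, Subgroup.card_map_of_injective M.subtype_injective] at hd
    rw [hH, Cfsg.fittingHallOf, Subgroup.relIndex, Subgroup.subgroupOf,
      Subgroup.comap_map_eq_self_of_injective M.subtype_injective, hst] at hdM
    exact Nat.not_coprime_of_dvd_of_dvd ht.one_lt hd hdM (CfsgLib.TypeP.fittingHall_coprime ↥M)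
  · refine le_sup_of_le_left (le_inf (hTF.trans hFM) fun x hx => Subgroup.mem_centralizer_iff.2 fun h hh => ?_)
    obtain ⟨i, hi⟩ := IsPGroup.iff_orderOf.1 hT ⟨x, hx⟩
    exact (congrArg Subtype.val (Hall.DPi.commute_of_coprime_orders (H := ↥(Cfsg.fittingOf M)) (p := t) (i := i)
      (a := ⟨x, hTF hx⟩) (b := ⟨h, hHF hh⟩) (by rw [Subgroup.orderOf_mk, ← hi, Subgroup.orderOf_mk])
      (by rw [Subgroup.orderOf_mk]; exact (ht.coprime_iff_not_dvd.2 fun h' =>
        hd (h'.trans (Subgroup.orderOf_dvd_natCard H hh))).symm))).symm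

end CfsgLib.BGFifteen
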