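import Cfsg.Agent.BGFifteen.Structure
import Cfsg.Agent.QdRank.Core

/-!
B&G 15.3: the place of `K* = M_σ ∩ C(K)` in `M_F`.
-/

set_option autoImplicit false
set_option linter.unusedSectionVars false
set_option linter.style.haveILetI false

namespace CfsgLib.BGFifteen

open CfsgLib.BenderUnique CfsgLib.Uniq CfsgLib.SigmaGroups
open scoped commutatorElement

universe u

variable {G : Type u} [Group G] [Finite G] {M K U : Subgroup G}

/-- A prime of `K*` does not divide the index of `M_F`. -/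
theorem not_dvd_index_fittingHall (hG : Cfsg.IsMinSimpleOddOrder G) (hM : IsCoatom M)
    (hK : Cfsg.IsPiHallOf (Cfsg.kappa M) K M) (hK1 : K ≠ ⊥) :
    (∀ t : ℕ, t.Prime → t ∣ Nat.card ↥(Cfsg.sigmaCore M ⊓ Subgroup.centralizer (K : Set G)) →
      ¬ t ∣ (Cfsg.fittingHall ↥M).index) ∧
    Cfsg.sigmaCore M ⊓ Subgroup.centralizer (K : Set G) ≤ Cfsg.fittingHallOf M := by
  by_cases hn : Group.IsNilpotent (Cfsg.sigmaCore M)
  · have he := (fittingHallOf_eq_iff hG hM).2 hn
    refine ⟨fun t ht hd => ?_, he.ge.trans' inf_le_left⟩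
    have hidx : (Cfsg.fittingHall ↥M).index = (Cfsg.sigmaCore M).relIndex M := by
      rw [← he, Cfsg.fittingHallOf, Subgroup.relIndex, Subgroup.subgroupOf,
        Subgroup.comap_map_eq_self_of_injective M.subtype_injective]
    rw [hidx]
    exact (sigmaCore_hallOf hG hM).2.2 t ht (mem_sigma_of_dvd M ht (hd.trans (Subgroup.card_dvd_of_le inf_le_left)))
  have hall : ∀ t : ℕ, t.Prime → t ∣ Nat.card M → t ∉ Cfsg.sigma M → t ∈ Cfsg.kappa M :=
    fun t ht hd hs => kappa_of_not_nilpotent hG hM hn ht hd hs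
  obtain ⟨-, -, -, hq, Q, hQn, -, -, hQq, hQi, hCQ, -⟩ :=
    core_of_not_nilpotent hG hM hn (isComplIn_kappa hG hM hK hall)
  have hQF : Q ≤ Cfsg.fittingHall ↥M := sylow_le_fittingHall hq hQn hQq hQi
  refine ⟨fun t ht hd h => hQi ?_, hCQ.trans (Subgroup.map_mono hQF)⟩
  rw [(Nat.prime_dvd_prime_iff_eq ht hq).1 hd] at h
  exact h.trans (Subgroup.index_dvd_of_le hQF)

/-- Transfer into an abelian subgroup of index prime to `q`. -/
theorem false_of_central_commutator {X : Type*} [Group X] [Finite X] {q : ℕ} (hq : q.Prime) (T : Subgroup X)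
    [IsMulCommutative T] (hi : ¬ q ∣ T.index) {z : X} (hzT : z ∈ T) (hz : ∀ x : X, Commute x z)
    (hzc : z ∈ commutator X) (hzo : orderOf z = q) : False := by
  letI : CommGroup T := { (inferInstance : Group T) with mul_comm := fun a b => mul_comm' a b }
  have key : ∀ (k : ℕ) (g₀ : X), g₀⁻¹ * z ^ k * g₀ ∈ T → g₀⁻¹ * z ^ k * g₀ = z ^ k := fun k g₀ _ => by
    rw [mul_assoc, ← ((hz g₀).pow_right k).eq, inv_mul_cancel_left]
  have h1 : MonoidHom.transfer (MonoidHom.id T) z = 1 :=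
    Abelianization.commutator_subset_ker (MonoidHom.transfer (MonoidHom.id T)) hzc
  rw [MonoidHom.transfer_eq_pow (MonoidHom.id T) z key] at h1
  exact hi (hzo ▸ orderOf_dvd_of_pow_eq_one (congrArg Subtype.val h1))

/-- `U` lies in `M'`. -/
theorem u_le_derived (hG : Cfsg.IsMinSimpleOddOrder G) (hM : IsCoatom M)
    (hKU : Cfsg.IsSigmaDecomposition M K U) (hK1 : K ≠ ⊥) : U ≤ ⁅M, M⁆ := by
  haveI := isSolvable_of_ne_top hG hM.1
  obtain ⟨hUM, hWM, hUW, hmul⟩ := hKU.compl
  have hfix : U ⊓ Subgroup.centralizer (K : Set G) = ⊥ := by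
    refine le_bot_iff.1 (hUW ▸ le_inf inf_le_left ?_)
    have h := normalizer_kappa_eq hG hM hKU.hall hK1 le_rfl hK1 Subgroup.le_normalizer
    exact (le_inf (inf_le_left.trans hUM) (inf_le_right.trans (Subgroup.centralizer_le_normalizer _))).trans
      (h.le.trans (sup_le_sup_left inf_le_left K))
  have hcop : (Nat.card K).Coprime (Nat.card U) := Nat.coprime_of_dvd fun t ht h1 h2 => by
    refine hKU.hall.2.2 t ht (hKU.hall.2.1 t ht h1) (h2.trans ?_)
    have hU : Nat.card U = (K ⊔ Cfsg.sigmaCore M).relIndex U := by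
      rw [← Subgroup.inf_relIndex_right, inf_comm, hUW, Subgroup.relIndex_bot_left]
    have hdiv : (K ⊔ Cfsg.sigmaCore M).relIndex U ∣ (K ⊔ Cfsg.sigmaCore M).relIndex M := by
      haveI : ((K ⊔ Cfsg.sigmaCore M).subgroupOf M).FiniteIndex := inferInstance
      have h3 := CfsgLib.TypeP.card_eq_of_isComplIn hKU.compl
      have h4 : Nat.card ↥(K ⊔ Cfsg.sigmaCore M) * (K ⊔ Cfsg.sigmaCore M).relIndex M = Nat.card M := by
        rw [← Subgroup.relIndex_bot_left, ← Subgroup.relIndex_bot_left M]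
        exact Subgroup.relIndex_mul_relIndex _ _ _ bot_le hWM
      rw [h3, mul_comm (Nat.card U)] at h4
      rw [Nat.eq_of_mul_eq_mul_left Nat.card_pos h4, ← hU]
    exact hU.dvd.trans (hdiv.trans (Subgroup.relIndex_dvd_of_le_left M le_sup_left))
  intro u hu
  haveI : IsCyclic K := hKU.cyclic
  haveI : Group.IsSolvable U := isSolvable_of_ne_top hG fun h => hM.1 (top_le_iff.1 (h ▸ hUM))
  obtain ⟨n, hn, c, hc, rfl⟩ := CoprimeAction.exists_commutator_mul_centralizer hKU.normal hcop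
    (Or.inr inferInstance) hu
  have h1 : c ∈ U ⊓ Subgroup.centralizer (K : Set G) := hc
  rw [hfix, Subgroup.mem_bot] at h1
  rw [h1, mul_one]
  exact Subgroup.commutator_mono hUM hKU.hall.1 hn

/-- B&G 15.3: `K*` is cyclic, nontrivial, inside `M_F`, and `M_F` is not cyclic. -/
theorem kappa_star_in_fittingHall (hG : Cfsg.IsMinSimpleOddOrder G) (hM : IsCoatom M)
    (hKU : Cfsg.IsSigmaDecomposition M K U) (hK1 : K ≠ ⊥) :
    IsCyclic ↥(Cfsg.sigmaCore M ⊓ Subgroup.centralizer (K : Set G)) ∧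
      Cfsg.sigmaCore M ⊓ Subgroup.centralizer (K : Set G) ≠ ⊥ ∧
      Cfsg.sigmaCore M ⊓ Subgroup.centralizer (K : Set G) ≤ Cfsg.fittingHallOf M ∧
      ¬ IsCyclic (Cfsg.fittingHallOf M) := by
  obtain ⟨Ms, hMs, P⟩ := exists_kappaPair hG hM hKU.hall hK1
  have hS1 := kappaStar_ne_bot hG hM hKU.hall hK1
  obtain ⟨hidx, hSF⟩ := not_dvd_index_fittingHall hG hM hKU.hall hK1
  refine ⟨isCyclic_kappa_hall hG hMs P.hall_star, hS1, hSF, fun hc => ?_⟩
  set F := Cfsg.fittingHallOf M with hF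
  set S := Cfsg.sigmaCore M ⊓ Subgroup.centralizer (K : Set G) with hS
  have hFn : M ≤ Subgroup.normalizer (F : Set G) :=
    PReduced.le_normalizer_map_subtype M (Cfsg.fittingHall ↥M)
  have hder : ⁅M, M⁆ ≤ Subgroup.centralizer (F : Set G) := CfsgLib.QdRank.commutator_le_centralizer hFn
  obtain ⟨q, hq, hqS⟩ := Nat.exists_prime_and_dvd fun e => hS1 (Subgroup.card_eq_one.1 e)
  haveI := Fact.mk hq
  obtain ⟨z, hz, hzo⟩ := exists_elem_prime (p := q) hqS
  have hcen : ∀ a ∈ M, Commute a z := by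
    intro a ha
    obtain ⟨u, hu, w, hw, rfl⟩ := hKU.compl.2.2.2 a ha
    obtain ⟨k, hk, s, hs, rfl⟩ := CoprimeAction.exists_mul_of_mem_sup
      (hKU.hall.1.trans (le_normalizer_sigmaCore M)) hw
    have hd : ∀ b ∈ ⁅M, M⁆, Commute b z := fun b hb =>
      (Subgroup.mem_centralizer_iff.1 (hder hb) z (hSF hz)).symm
    have hk' : Commute k z := Subgroup.mem_centralizer_iff.1 hz.2 k hk
    exact (hd u (u_le_derived hG hM hKU hK1 hu)).mul_left (hk'.mul_left
      (hd s (sigmaCore_le_derived hG hM hs)))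
  obtain ⟨z', hz', hzz⟩ := hSF hz
  haveI hcm : IsCyclic ↥((Cfsg.fittingHall ↥M).map M.subtype) := hc
  haveI hc' : IsCyclic ↥(Cfsg.fittingHall ↥M) := isCyclic_of_surjective
    ((Cfsg.fittingHall ↥M).equivMapOfInjective M.subtype M.subtype_injective).symm
    ((Cfsg.fittingHall ↥M).equivMapOfInjective M.subtype M.subtype_injective).symm.surjective
  haveI : IsMulCommutative ↥(Cfsg.fittingHall ↥M) := IsCyclic.isMulCommutative
  refine false_of_central_commutator hq (Cfsg.fittingHall ↥M) (hidx q hq hqS) hz'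
    (fun x => Subtype.ext (hzz ▸ hcen x.1 x.2 : Commute (x : G) (M.subtype z')).eq) ?_ ?_
  · have h : z ∈ ⁅M, M⁆ := sigmaCore_le_derived hG hM hz.1
    rw [← Subgroup.map_subtype_commutator] at h
    obtain ⟨z'', hz'', he⟩ := h
    rwa [M.subtype_injective (hzz.trans he.symm)]
  · rw [← Subgroup.orderOf_coe, show (z' : G) = z from hzz, hzo]

end CfsgLib.BGFifteen
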