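import Cfsg.Agent.BGFifteen.TypeFive
import Cfsg.Agent.S1369

/-!
B&G 16, theorem I: the list of maximal subgroups, given that `κ = ∅` gives type I.
-/

set_option autoImplicit false
set_option linter.unusedSectionVars false
set_option linter.style.haveILetI false

namespace CfsgLib.BGFifteen

open CfsgLib.BenderUnique CfsgLib.Uniq CfsgLib.SigmaGroups
open scoped commutatorElement

variable {G : Type*} [Group G] [Finite G] {M Ms K U : Subgroup G}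

theorem derived_compl (hG : Cfsg.IsMinSimpleOddOrder G) (hM : IsCoatom M)
    (hKU : Cfsg.IsSigmaDecomposition M K U) (hK1 : K ≠ ⊥) : Cfsg.IsComplIn ⁅M, M⁆ K M := by
  have hder := decomp_derived hG hM hKU hK1
  obtain ⟨hE, -⟩ := decomp_complement_card hG hM hKU
  obtain ⟨hUM, -, hUW, hmul⟩ := hKU.compl
  have hKn : K ≤ Subgroup.normalizer (Cfsg.sigmaCore M : Set G) := hKU.hall.1.trans (le_normalizer_sigmaCore M)
  refine ⟨Subgroup.commutator_le_self M, hKU.hall.1, ?_, fun m hm => ?_⟩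
  · rw [eq_bot_iff, hder]
    rintro k ⟨hk, hkK⟩
    obtain ⟨u, hu, s, hs, rfl⟩ := CoprimeAction.exists_mul_of_mem_sup (hUM.trans (le_normalizer_sigmaCore M)) hk
    have h1 : u ∈ U ⊓ (K ⊔ Cfsg.sigmaCore M) := ⟨hu, by
      have h := mul_mem (Subgroup.mem_sup_left (T := Cfsg.sigmaCore M) hkK) (Subgroup.mem_sup_right (inv_mem hs))
      rwa [mul_inv_cancel_right] at h⟩
    rw [hUW, Subgroup.mem_bot] at h1
    subst h1
    rw [one_mul] at hkK ⊢
    have h2 : s ∈ (K ⊔ U) ⊓ Cfsg.sigmaCore M := ⟨Subgroup.mem_sup_left hkK, hs⟩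
    rwa [hE.2.2.1] at h2
  · obtain ⟨u, hu, w, hw, rfl⟩ := hmul m hm
    obtain ⟨k, hk, s, hs, rfl⟩ := CoprimeAction.exists_mul_of_mem_sup hKn hw
    refine ⟨u * (k * s * k⁻¹), ?_, k, hk, by group⟩
    rw [hder]
    exact Subgroup.mul_mem_sup hu ((Subgroup.mem_normalizer_iff.1 (hKn hk) s).1 hs)

theorem type_not_one (hG : Cfsg.IsMinSimpleOddOrder G) (hM : IsCoatom M)
    (hKU : Cfsg.IsSigmaDecomposition M K U) (hK1 : K ≠ ⊥) :
    Cfsg.IsOfTypeII M ∨ Cfsg.IsOfTypeIII M ∨ Cfsg.IsOfTypeIV M ∨ Cfsg.IsOfTypeV M := by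
  by_cases hU : U = ⊥
  · by_cases hH : Cfsg.fittingHallOf M = Cfsg.sigmaCore M
    · exact Or.inr (Or.inr (Or.inr ((type_five_iff hG hM hKU).2 ⟨hK1, hU, hH⟩)))
    · rcases (type_three_four_iff hG hM hKU).2 ⟨hK1, hU, hH⟩ with h | h
      · exact Or.inr (Or.inl h)
      · exact Or.inr (Or.inr (Or.inl h))
  · exact Or.inl ((type_two_iff hG hM hKU).2 ⟨hK1, hU⟩)

theorem maximal_list (hG : Cfsg.IsMinSimpleOddOrder G)
    (hI : ∀ M K U : Subgroup G, IsCoatom M → Cfsg.IsSigmaDecomposition M K U → K = ⊥ → U ≠ ⊥ → Cfsg.IsOfTypeI M) :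
    (∀ M : Subgroup G, IsCoatom M → Cfsg.IsOfTypeI M) ∨
      ∃ W₁ W₂ S T : Subgroup G, Cfsg.IsSelfNormalizingCyclic W₁ W₂ ∧ IsCoatom S ∧ IsCoatom T ∧
        Cfsg.IsComplIn ⁅S, S⁆ W₁ S ∧ Cfsg.IsComplIn ⁅T, T⁆ W₂ T ∧ S ⊓ T = W₁ ⊔ W₂ ∧
        (Cfsg.IsOfTypeII S ∨ Cfsg.IsOfTypeII T) ∧
        (Cfsg.IsOfTypeII S ∨ Cfsg.IsOfTypeIII S ∨ Cfsg.IsOfTypeIV S ∨ Cfsg.IsOfTypeV S) ∧
        (Cfsg.IsOfTypeII T ∨ Cfsg.IsOfTypeIII T ∨ Cfsg.IsOfTypeIV T ∨ Cfsg.IsOfTypeV T) ∧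
        ∀ M : Subgroup G, IsCoatom M → Cfsg.IsOfTypeI M ∨
          ∃ g : G, M = S.map (MulAut.conj g).toMonoidHom ∨ M = T.map (MulAut.conj g).toMonoidHom := by
  classical
  have hone : ∀ M : Subgroup G, IsCoatom M → ¬ (Cfsg.kappa M).Nonempty → Cfsg.IsOfTypeI M := by
    intro M hM hk
    obtain ⟨K, U, hKU⟩ := exists_decomp_any hG hM
    have hK : K = ⊥ := by
      by_contra hK1
      obtain ⟨t, X, ht, hX, hXc⟩ := exists_line_le hK1
      exact hk ⟨t, hKU.hall.2.1 t ht (hXc ▸ Subgroup.card_dvd_of_le hX)⟩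
    refine hI M K U hM hKU hK fun hU => (derived_lt hG hM).not_ge fun m hm => ?_
    obtain ⟨a, ha, b, hb, rfl⟩ := hKU.compl.2.2.2 m hm
    rw [hU, Subgroup.mem_bot] at ha
    rw [hK, bot_sup_eq] at hb
    rw [ha, one_mul]
    exact sigmaCore_le_derived hG hM hb
  by_cases hall : ∀ M : Subgroup G, IsCoatom M → ¬ (Cfsg.kappa M).Nonempty
  · exact Or.inl fun M hM => hone M hM (hall M hM)
  push Not at hall
  obtain ⟨M, hM, hk⟩ := hall
  obtain ⟨K, U, hKU⟩ := exists_decomp_any hG hM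
  have hK1 : K ≠ ⊥ := fun h => by
    rw [kappa_empty_of_bot (h ▸ hKU.hall)] at hk
    exact Set.not_nonempty_empty hk
  obtain ⟨Ms, hMs, P⟩ := exists_kappaPair hG hM hKU.hall hK1
  set S := Cfsg.sigmaCore M ⊓ Subgroup.centralizer (K : Set G) with hS
  have hS1 : S ≠ ⊥ := kappaStar_ne_bot hG hM hKU.hall hK1
  have hSc : IsCyclic S := isCyclic_kappa_hall hG hMs P.hall_star
  obtain ⟨Us, hKUs⟩ := exists_decomp hG hMs hSc P.hall_star
  obtain ⟨hinf, hcyc⟩ := Cfsg.Agent.S1368.result hG M hM K U hKU hK1 Ms hMs P.eq_star P.hall_star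
  obtain ⟨htwo, hclass⟩ := Cfsg.Agent.S1369.result hG M hM K U hKU hK1 Ms hMs P.eq_star P.hall_star
  refine Or.inr ⟨K, S, M, Ms, ?_, hM, hMs, derived_compl hG hM hKU hK1, derived_compl hG hMs hKUs hS1, hinf, ?_,
    type_not_one hG hM hKU hK1, type_not_one hG hMs hKUs hS1, fun L hL => ?_⟩
  · haveI := hcyc
    haveI : IsMulCommutative ↥(K ⊔ S) := IsCyclic.isMulCommutative
    refine ⟨hK1, hS1, Subgroup.inf_eq_bot_of_coprime (kappaZ_coprime hKU.hall),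
      fun a ha b hb => Subgroup.mem_centralizer_iff.1 hb.2 a ha, hcyc, fun Y hY hY1 => ?_⟩
    refine le_antisymm (fun g hg => ?_) fun g hg => ?_
    · obtain ⟨a, ha⟩ := hY1
      exact kappaZ_mem_of_conj hG hM hKU.hall hK1 (hY ha).1 (fun h' => (hY ha).2 (Or.inl h'))
        (fun h' => (hY ha).2 (Or.inr h')) (hY ((Subgroup.mem_set_normalizer_iff.1 hg a).1 ha)).1
    · exact Subgroup.centralizer_le_normalizer _ (Subgroup.mem_centralizer_iff.2 fun a ha =>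
        setLike_mul_comm (hY ha).1 hg)
  · rcases htwo with h | h
    · exact Or.inl ((type_two_iff hG hM hKU).2 ⟨hK1, h⟩)
    · exact Or.inr ((type_two_iff hG hMs hKUs).2 ⟨hS1, h Us hKUs⟩)
  · by_cases hkL : (Cfsg.kappa L).Nonempty
    · exact Or.inr (hclass L hL hkL)
    · exact Or.inl (hone L hL hkL)

end CfsgLib.BGFifteen
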