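import Cfsg.Agent.BGFifteen.FittingEq
import Cfsg.Agent.BGFifteen.FrobeniusPGroup

/-!
B&G 15.2: `M'' ≤ F(M)`, and the complement of `M_σ` has prime order when `M_σ` is not nilpotent.
-/

set_option autoImplicit false
set_option linter.unusedSectionVars false
set_option linter.style.haveILetI false

namespace CfsgLib.BGFifteen

open CfsgLib.BenderUnique CfsgLib.Uniq CfsgLib.SigmaGroups
open scoped commutatorElement

universe u

variable {G : Type u} [Group G] [Finite G] {M K U : Subgroup G}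

theorem nilpotent_sup {A B : Subgroup G} (hA : Group.IsNilpotent A) (hB : Group.IsNilpotent B)
    (hAn : A ⊔ B ≤ Subgroup.normalizer (A : Set G)) (hBn : A ⊔ B ≤ Subgroup.normalizer (B : Set G)) :
    Group.IsNilpotent ↥(A ⊔ B) := by
  have h : A ⊔ B ≤ Cfsg.fittingOf (A ⊔ B) := sup_le (le_fittingOf le_sup_left hAn hA) (le_fittingOf le_sup_right hBn hB)
  haveI := CfsgLib.Components.fittingSubgroup_isNilpotent (G := ↥(A ⊔ B))
  haveI : Group.IsNilpotent ↥(Cfsg.fittingOf (A ⊔ B)) :=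
    Group.nilpotent_of_mulEquiv (Subgroup.equivMapOfInjective (Cfsg.fittingSubgroup ↥(A ⊔ B)) _ (A ⊔ B).subtype_injective)
  exact Group.nilpotent_of_mulEquiv (Subgroup.subgroupOfEquivOfLe h)

theorem commutator_sup_le {A B : Subgroup G} (hAB : A ≤ Subgroup.normalizer (B : Set G)) :
    ⁅A ⊔ B, A ⊔ B⁆ ≤ ⁅A, A⁆ ⊔ B := by
  rw [Subgroup.commutator_le]
  intro x hx y hy
  obtain ⟨a, ha, b, hb, rfl⟩ := CoprimeAction.exists_mul_of_mem_sup hAB hx
  obtain ⟨c, hc, d, hd, rfl⟩ := CoprimeAction.exists_mul_of_mem_sup hAB hy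
  set N := Subgroup.normalizer (B : Set G) with hN
  have hBN : B ≤ N := Subgroup.le_normalizer
  haveI : (B.subgroupOf N).Normal := Subgroup.normal_subgroupOf_of_le_normalizer le_rfl
  let π := QuotientGroup.mk' (B.subgroupOf N)
  have hb' : ∀ (z : G) (hz : z ∈ B), π ⟨z, hBN hz⟩ = 1 := fun z hz =>
    (QuotientGroup.eq_one_iff _).2 (Subgroup.mem_subgroupOf.2 hz)
  have h1 : π ⁅(⟨a, hAB ha⟩ : N) * ⟨b, hBN hb⟩, (⟨c, hAB hc⟩ : N) * ⟨d, hBN hd⟩⁆ =
      π ⁅(⟨a, hAB ha⟩ : N), (⟨c, hAB hc⟩ : N)⁆ := by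
    rw [map_commutatorElement, map_mul, map_mul, hb' b hb, hb' d hd, mul_one, mul_one, map_commutatorElement]
  rw [QuotientGroup.mk'_eq_mk'] at h1
  obtain ⟨w, hw, he⟩ := h1
  have h2 : ⁅a * b, c * d⁆ = ⁅a, c⁆ * ((w : G))⁻¹ := by
    rw [eq_mul_inv_iff_mul_eq]
    exact congrArg Subtype.val he
  rw [h2]
  exact Subgroup.mul_mem_sup (Subgroup.commutator_mem_commutator ha hc) (inv_mem (Subgroup.mem_subgroupOf.1 hw))

/-- When `M_σ` is not nilpotent, `K` has prime order and `M_σ' ≤ F(M)`. -/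
theorem not_nilpotent_data (hG : Cfsg.IsMinSimpleOddOrder G) (hM : IsCoatom M)
    (hn : ¬ Group.IsNilpotent (Cfsg.sigmaCore M)) (hE : Cfsg.IsComplIn K (Cfsg.sigmaCore M) M) :
    (Nat.card K).Prime ∧ ⁅⁅M, M⁆, ⁅M, M⁆⁆ ≤ Cfsg.fittingOf M := by
  obtain ⟨hK, hK1, hcyc, hq, Q, hQn, hQH, -, hQq, hQi, hCQ, hnil⟩ := core_of_not_nilpotent hG hM hn hE
  haveI := Fact.mk hq
  haveI := isSolvable_of_ne_top hG hM.1
  set H := Cfsg.sigmaCore M with hH
  set S := H ⊓ Subgroup.centralizer (K : Set G) with hS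
  set q := Nat.card S with hqdef
  have hHM : H ≤ M := Subgroup.map_subtype_le _
  set Q' := Q.map M.subtype with hQ'
  have hQM : M ≤ Subgroup.normalizer (Q' : Set G) := PReduced.le_normalizer_map_subtype M Q
  have hQp : IsPGroup q Q' := hQq.map _
  have hqσ : q ∈ Cfsg.sigma M := mem_sigma_of_dvd M hq (Subgroup.card_dvd_of_le inf_le_left)
  have hKq : ∀ t : ℕ, t.Prime → t ∣ Nat.card K → t ∈ {t : ℕ | t ≠ q} := fun t ht hd he =>
    (hK.2.1 t ht hd).2.2.1 (he ▸ hqσ)
  obtain ⟨L, hKL, hL, -⟩ := exists_hall_over (π := {t : ℕ | t ≠ q}) hK.1 hKq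
  set D := L ⊓ H with hD
  have hDM : D ≤ M := inf_le_left.trans hL.1
  have hDH : D ≤ H := inf_le_right
  have hcopDQ : (Nat.card D).Coprime (Nat.card Q') := by
    obtain ⟨n, hn'⟩ := hQp.exists_card_eq
    rw [hn']
    exact ((hq.coprime_iff_not_dvd.2 fun h => hL.2.1 q hq
      (h.trans (Subgroup.card_dvd_of_le inf_le_left)) rfl).symm).pow_right n
  have hDQ : D ⊓ Q' = ⊥ := Subgroup.inf_eq_bot_of_coprime hcopDQ
  have hHDQ : H ≤ D ⊔ Q' := le_of_prime_relIndex fun t ht _ hdi => by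
    by_cases htq : t = q
    · have h := hdi.trans (Subgroup.relIndex_dvd_of_le_left H (le_sup_right : Q' ≤ D ⊔ Q'))
      have h2 := h.trans (relIndex_dvd_of_normal hQM hHM)
      rw [hQ', Subgroup.relIndex, Subgroup.subgroupOf, Subgroup.comap_map_eq_self_of_injective M.subtype_injective, htq] at h2
      exact hQi h2
    · have h := hdi.trans (Subgroup.relIndex_dvd_of_le_left H (le_sup_left : D ≤ D ⊔ Q'))
      rw [hD, Subgroup.inf_relIndex_right] at h
      have hLn : L ≤ Subgroup.normalizer (H : Set G) := hL.1.trans (le_normalizer_sigmaCore M)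
      refine hL.2.2 t ht htq (h.trans ?_)
      have hsup : L ⊔ H ≤ M := sup_le hL.1 hHM
      rw [← Subgroup.relIndex_mul_relIndex L (L ⊔ H) M le_sup_left hsup]
      refine Dvd.dvd.mul_right ?_ _
      have e1 : Nat.card L * L.relIndex (L ⊔ H) = Nat.card ↥(L ⊔ H) := by
        rw [← Subgroup.relIndex_bot_left, ← Subgroup.relIndex_bot_left]
        exact Subgroup.relIndex_mul_relIndex _ _ _ bot_le le_sup_left
      have e2 : Nat.card ↥(L ⊓ H) * L.relIndex H = Nat.card H := by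
        rw [← Subgroup.relIndex_bot_left, ← Subgroup.relIndex_bot_left, ← Subgroup.inf_relIndex_right L H]
        exact Subgroup.relIndex_mul_relIndex _ _ _ bot_le inf_le_right
      have e3 := ZJ.card_sup_mul_card_inf_of_le_normalizer hLn
      rw [← e1, ← e2] at e3
      have e4 : Nat.card L * Nat.card ↥(L ⊓ H) * L.relIndex (L ⊔ H) =
          Nat.card L * Nat.card ↥(L ⊓ H) * L.relIndex H := by linarith
      rw [Nat.eq_of_mul_eq_mul_left (Nat.mul_pos Nat.card_pos Nat.card_pos) e4]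
  have hKn : K ≤ Subgroup.normalizer (D : Set G) := by
    rw [Subgroup.le_normalizer_iff]
    exact fun k hk d hd => ⟨L.mul_mem (L.mul_mem (hKL hk) hd.1) (L.inv_mem (hKL hk)),
      (Subgroup.mem_normalizer_iff.1 (le_normalizer_sigmaCore M (hK.1 hk)) d).1 hd.2⟩
  haveI : Group.IsNilpotent ↥D := by
    haveI := hnil
    let f : ↥(D.subgroupOf M) →* ↥((H.subgroupOf M).map (QuotientGroup.mk' Q)) :=
      ((QuotientGroup.mk' Q).subgroupMap (H.subgroupOf M)).comp (Subgroup.inclusion fun x hx => hDH hx)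
    haveI : Group.IsNilpotent ↥(D.subgroupOf M) := CfsgLib.CN.MinOdd.isNilpotent_of_inj f fun a b hab => by
      have h := (QuotientGroup.eq (s := Q)).1 (congrArg Subtype.val hab)
      have h2 : (((a : ↥M)⁻¹ * (b : ↥M) : ↥M) : G) ∈ D ⊓ Q' :=
        ⟨D.mul_mem (D.inv_mem a.2) b.2, _, h, rfl⟩
      rw [hDQ, Subgroup.mem_bot] at h2
      exact Subtype.ext (inv_mul_eq_one.1 (Subtype.ext h2))
    exact Group.nilpotent_of_mulEquiv (Subgroup.subgroupOfEquivOfLe hDM)
  have hQnil : Group.IsNilpotent ↥Q' := hQp.isNilpotent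
  have hnc : ¬ D ≤ Subgroup.centralizer (Q' : Set G) := fun hc => by
    haveI := nilpotent_sup (inferInstance : Group.IsNilpotent ↥D) hQnil
      (sup_le Subgroup.le_normalizer ((Subgroup.le_centralizer_iff.1 hc).trans (Subgroup.centralizer_le_normalizer _)))
      (sup_le (hDM.trans hQM) Subgroup.le_normalizer)
    exact hn (Group.nilpotent_of_mulEquiv (Subgroup.subgroupOfEquivOfLe hHDQ))
  obtain ⟨U, hU⟩ := exists_decomp hG hM hcyc hK
  have hfix : ∀ x ∈ K, x ≠ 1 → H ⊓ Subgroup.centralizer ({x} : Set G) ≤ S := fun x hx hx1 => by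
    obtain ⟨t, X, ht, hX, hXc, hC⟩ := exists_line_of_mem hx hx1
    rw [hS, ← ((decomp_kappa_structure hG hM hU hK1).2 X hX (by rw [hXc]; exact ht)).1]
    exact inf_le_inf_left _ hC
  have hSc : IsCyclic S := isCyclic_of_prime_card (p := q) rfl
  have hpr : ∀ x ∈ K, x ≠ 1 →
      Q' ⊓ Subgroup.centralizer ({x} : Set G) = Q' ⊓ Subgroup.centralizer (K : Set G) := fun x hx hx1 =>
    le_antisymm (le_inf inf_le_left ((inf_le_inf_right _ hQH).trans ((hfix x hx hx1).trans inf_le_right)))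
      (inf_le_inf_left _ (Subgroup.centralizer_le (Set.singleton_subset_iff.2 hx)))
  have hcopK : (Nat.card K).Coprime (Nat.card Q') := by
    obtain ⟨n, hn'⟩ := hQp.exists_card_eq
    rw [hn']
    exact ((hq.coprime_iff_not_dvd.2 fun h => hKq q hq h rfl).symm).pow_right n
  obtain ⟨hprime, hc, -⟩ := frobenius_on_pgroup (K := D) (R := K) hQp hK1
    (le_bot_iff.1 ((inf_le_inf_right _ hDH).trans (by rw [inf_comm, hE.2.2.1]))) hKn
    (fun r hr hr1 => le_bot_iff.1 (hDQ ▸ le_inf inf_le_left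
      ((inf_le_inf_right _ hDH).trans ((hfix r hr hr1).trans hCQ))))
    (hDM.trans hQM) (hK.1.trans hQM)
    ((Nat.Coprime.mul_left hcopDQ hcopK).coprime_dvd_left
      (Dvd.intro _ (ZJ.card_sup_mul_card_inf_of_le_normalizer hKn) |>.trans (dvd_of_eq (mul_comm _ _)) |> fun h => by
        rwa [sup_comm] at h))
    hnc hpr (by haveI := hSc; exact Subgroup.isCyclic_of_le (inf_le_inf_right _ hQH))
  refine ⟨hprime, ?_⟩
  have hder : ⁅M, M⁆ ≤ D ⊔ Q' := by
    refine le_trans ?_ hHDQ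
    have hcom : ⁅K, K⁆ = ⊥ := Subgroup.commutator_eq_bot_iff_le_centralizer.2 fun a ha =>
      Subgroup.mem_centralizer_iff.2 fun b hb => by
        haveI := hcyc
        haveI : IsMulCommutative K := IsCyclic.isMulCommutative
        exact setLike_mul_comm hb ha
    have h := commutator_le_sup hE
    rwa [hcom, bot_sup_eq] at h
  set Cq := H ⊓ Subgroup.centralizer (Q' : Set G) with hCq
  have hCqn : M ≤ Subgroup.normalizer (Cq : Set G) := by
    rw [Subgroup.le_normalizer_iff]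
    refine fun m hm c hc => ⟨(Subgroup.mem_normalizer_iff.1 (le_normalizer_sigmaCore M hm) c).1 hc.1,
      Subgroup.mem_centralizer_iff.2 fun h hh => ?_⟩
    have h1 : m⁻¹ * h * m ∈ Q' := (Subgroup.mem_normalizer_iff''.1 (hQM hm) h).1 hh
    have h2 := Subgroup.mem_centralizer_iff.1 hc.2 _ h1
    calc h * (m * c * m⁻¹) = m * ((m⁻¹ * h * m) * c) * m⁻¹ := by group
      _ = m * (c * (m⁻¹ * h * m)) * m⁻¹ := by rw [h2]
      _ = m * c * m⁻¹ * h := by group
  have hCqnil : Group.IsNilpotent ↥Cq := by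
    haveI := hnil
    let f : ↥(Cq.subgroupOf M) →* ↥((H.subgroupOf M).map (QuotientGroup.mk' Q)) :=
      ((QuotientGroup.mk' Q).subgroupMap (H.subgroupOf M)).comp
        (Subgroup.inclusion fun x hx => (Subgroup.mem_subgroupOf.1 hx).1)
    haveI : Group.IsNilpotent ↥(Cq.subgroupOf M) := Subgroup.isNilpotent_of_ker_le_center f fun c hc' => by
      have h : ((c : ↥M) : G) ∈ Q' := ⟨(c : ↥M), (QuotientGroup.eq_one_iff _).1 (congrArg Subtype.val hc'), rfl⟩
      rw [Subgroup.mem_center_iff]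
      intro d
      exact Subtype.ext (Subtype.ext (Subgroup.mem_centralizer_iff.1 (Subgroup.mem_subgroupOf.1 d.2).2 _ h).symm)
    exact Group.nilpotent_of_mulEquiv (Subgroup.subgroupOfEquivOfLe (inf_le_left.trans hHM))
  refine (Subgroup.commutator_mono hder hder).trans ((commutator_sup_le (hDM.trans hQM)).trans (sup_le ?_
    (le_fittingOf (Subgroup.map_subtype_le _) hQM hQnil)))
  exact le_trans (le_inf ((Subgroup.commutator_le_self D).trans hDH) hc)
    (le_fittingOf (inf_le_left.trans hHM) hCqn hCqnil)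

theorem second_derived_le_fitting (hG : Cfsg.IsMinSimpleOddOrder G) (hM : IsCoatom M) :
    ⁅⁅M, M⁆, ⁅M, M⁆⁆ ≤ Cfsg.fittingOf M := by
  obtain ⟨E, hE⟩ := exists_complement hG hM
  by_cases hn : Group.IsNilpotent (Cfsg.sigmaCore M)
  · have hle := commutator_le_sup hE
    have hEn : ⁅E, E⁆ ≤ Subgroup.normalizer (Cfsg.sigmaCore M : Set G) :=
      ((Subgroup.commutator_le_self E).trans hE.1).trans (le_normalizer_sigmaCore M)
    haveI := (Cfsg.Agent.S1420.result hG M hM E hE).2.1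
    have hbot : ⁅⁅E, E⁆, ⁅E, E⁆⁆ = ⊥ := Subgroup.commutator_eq_bot_iff_le_centralizer.2 fun a ha =>
      Subgroup.mem_centralizer_iff.2 fun b hb => setLike_mul_comm hb ha
    refine (Subgroup.commutator_mono hle hle).trans ((commutator_sup_le hEn).trans ?_)
    rw [hbot, bot_sup_eq]
    exact le_fittingOf (Subgroup.map_subtype_le _) (le_normalizer_sigmaCore M) hn
  · exact (not_nilpotent_data hG hM hn hE).2

theorem fitting_le_derived (hG : Cfsg.IsMinSimpleOddOrder G) (hM : IsCoatom M)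
    (hk : (Cfsg.kappa M).Nonempty) : Cfsg.fittingOf M ≤ ⁅M, M⁆ := by
  obtain ⟨K, U, hKU⟩ := exists_decomp_any hG hM
  have hK1 : K ≠ ⊥ := fun h => by
    rw [kappa_empty_of_bot (h ▸ hKU.hall)] at hk
    exact Set.not_nonempty_empty hk
  rw [fitting_eq hG hM]
  exact sup_le ((centralizer_le_sup hG hM hKU).trans
      (sup_le (u_le_derived hG hM hKU hK1) (sigmaCore_le_derived hG hM)))
    ((fittingHallOf_le_sigmaCore hG hM).trans (sigmaCore_le_derived hG hM))

end CfsgLib.BGFifteen
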