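import Cfsg.Agent.BGFifteen.TI
import Cfsg.Agent.Sigma.KappaTypeTwo
import Cfsg.Agent.S1354
import Cfsg.Agent.S1368

/-!
B&G 16: the data of type P carried by a maximal subgroup with `κ ≠ ∅`.
-/

set_option autoImplicit false
set_option linter.unusedSectionVars false
set_option linter.style.haveILetI false

namespace CfsgLib.BGFifteen

open CfsgLib.BenderUnique CfsgLib.Uniq CfsgLib.SigmaGroups
open scoped commutatorElement

universe u

variable {G : Type u} [Group G] [Finite G] {M K U V W H X W₁ W₂ : Subgroup G}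

theorem card_mul_relIndex {A B : Subgroup G} (h : A ≤ B) : Nat.card A * A.relIndex B = Nat.card B := by
  rw [← Subgroup.relIndex_bot_left, ← Subgroup.relIndex_bot_left]
  exact Subgroup.relIndex_mul_relIndex _ _ _ bot_le h

/-- A Sylow subgroup of a subgroup of index prime to `t`, for `t ∈ σ(M)`. -/
theorem sigma_sylow_data {t : ℕ} [Fact t.Prime] (hWM : W ≤ M)
    (hi : ¬ t ∣ W.relIndex M) (hs : t ∈ Cfsg.sigma M) (T : Sylow t ↥W) :
    Subgroup.normalizer (((T : Subgroup ↥W).map W.subtype : Subgroup G) : Set G) ≤ M ∧ ¬ t ∣ W.index := by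
  set T' := (T : Subgroup ↥W).map W.subtype with hT'
  have hT'W : T' ≤ W := Subgroup.map_subtype_le _
  obtain ⟨P, hTP, hPM, hN⟩ := exists_sylow hs (T.isPGroup'.map W.subtype) (hT'W.trans hWM)
  have hrel : T'.relIndex W = (T : Subgroup ↥W).index := by
    rw [hT', Subgroup.relIndex, Subgroup.subgroupOf, Subgroup.comap_map_eq_self_of_injective W.subtype_injective]
  have hnd : ¬ t ∣ T'.relIndex M := by
    rw [← Subgroup.relIndex_mul_relIndex T' W M hT'W hWM, hrel]
    exact fun h => ((Fact.out : t.Prime).dvd_mul.1 h).elim T.not_dvd_index hi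
  have hPT : (P : Subgroup G) = T' := by
    refine (Subgroup.eq_of_le_of_card_ge hTP ?_).symm
    obtain ⟨n, hn⟩ := P.isPGroup'.exists_card_eq
    have hd : Nat.card P ∣ Nat.card T' * T'.relIndex M := by
      rw [card_mul_relIndex (hT'W.trans hWM)]
      exact Subgroup.card_dvd_of_le hPM
    refine Nat.le_of_dvd Nat.card_pos ((Nat.Coprime.dvd_mul_right ?_).1 hd)
    rw [show Nat.card P = t ^ n from hn]
    exact ((Fact.out : t.Prime).coprime_iff_not_dvd.2 hnd).pow_left n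
  refine ⟨hPT ▸ hN, fun h => P.not_dvd_index (h.trans (Subgroup.index_dvd_of_le ?_))⟩
  rw [hPT]
  exact hT'W

/-- A nilpotent Hall `σ`-subgroup of `M` has its normalizer in `M`. -/
theorem normalizer_le_of_nilpotent_hall (hVM : V ≤ M) (hV : Group.IsNilpotent V) (hV1 : V ≠ ⊥)
    (hi : ∀ t : ℕ, t.Prime → t ∣ Nat.card V → t ∈ Cfsg.sigma M ∧ ¬ t ∣ V.relIndex M) :
    Subgroup.normalizer (V : Set G) ≤ M := by
  obtain ⟨t, ht, hd⟩ := Nat.exists_prime_and_dvd fun e => hV1 (Subgroup.card_eq_one.1 e)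
  haveI := Fact.mk ht
  obtain ⟨T⟩ : Nonempty (Sylow t ↥V) := inferInstance
  obtain ⟨hs, hn⟩ := hi t ht hd
  refine le_trans ?_ (sigma_sylow_data hVM hn hs T).1
  haveI := hV
  have hiff := (Group.isNilpotent_of_finite_tfae (G := ↥V)).out 0 3
  haveI hTn : (T : Subgroup ↥V).Normal := hiff.1 hV t inferInstance T
  haveI : (T : Subgroup ↥V).Characteristic := T.characteristic_of_normal hTn
  rw [Subgroup.le_normalizer_iff]
  rintro g hg _ ⟨w, hw, rfl⟩
  exact ⟨V.normalizerMonoidHom ⟨g, hg⟩ w,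
    (Subgroup.characteristic_iff_map_le.1 (inferInstance : (T : Subgroup ↥V).Characteristic) _) ⟨w, hw, rfl⟩, rfl⟩

/-- A complement to a normal Hall subgroup, invariant under a coprime subgroup. -/
theorem exists_complement_invariant [Group.IsSolvable M] (hHW : H ≤ W) (hWM : W ≤ M) (hXM : X ≤ M)
    (hHn : M ≤ Subgroup.normalizer (H : Set G)) (hWn : M ≤ Subgroup.normalizer (W : Set G))
    (hHall : (Nat.card H).Coprime (H.relIndex M)) (hX : (Nat.card X).Coprime (Nat.card H)) :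
    ∃ V : Subgroup G, Cfsg.IsComplIn H V W ∧ X ≤ Subgroup.normalizer (V : Set G) ∧
      (Nat.card V).Coprime (Nat.card H) := by
  obtain ⟨L, hXL, hL, -⟩ := exists_hall_over (π := {t : ℕ | ¬ t ∣ Nat.card H}) hXM fun t ht hd h =>
    Nat.not_coprime_of_dvd_of_dvd ht.one_lt hd h hX
  set V := L ⊓ W with hV
  have hcop : (Nat.card V).Coprime (Nat.card H) := Nat.coprime_of_dvd fun t ht h1 h2 =>
    hL.2.1 t ht (h1.trans (Subgroup.card_dvd_of_le inf_le_left)) h2
  have hVn : V ≤ Subgroup.normalizer (H : Set G) := (inf_le_right.trans hWM).trans hHn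
  have hle : W ≤ V ⊔ H := le_of_prime_relIndex fun t ht _ hdi => by
    by_cases htH : t ∣ Nat.card H
    · exact Nat.not_coprime_of_dvd_of_dvd ht.one_lt htH
        ((hdi.trans (Subgroup.relIndex_dvd_of_le_left W le_sup_right)).trans (relIndex_dvd_of_normal hHn hWM)) hHall
    · have h := hdi.trans (Subgroup.relIndex_dvd_of_le_left W (le_sup_left : V ≤ V ⊔ H))
      rw [hV, Subgroup.inf_relIndex_right] at h
      refine hL.2.2 t ht htH (h.trans ?_)
      have hLn : L ≤ Subgroup.normalizer (W : Set G) := hL.1.trans hWn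
      rw [← Subgroup.relIndex_mul_relIndex L (L ⊔ W) M le_sup_left (sup_le hL.1 hWM)]
      refine Dvd.dvd.mul_right ?_ _
      have e1 := card_mul_relIndex (le_sup_left : L ≤ L ⊔ W)
      have e2 : Nat.card ↥(L ⊓ W) * L.relIndex W = Nat.card W := by
        rw [← Subgroup.inf_relIndex_right L W]
        exact card_mul_relIndex inf_le_right
      have e3 := ZJ.card_sup_mul_card_inf_of_le_normalizer hLn
      rw [← e1, ← e2] at e3
      have e4 : Nat.card L * Nat.card ↥(L ⊓ W) * L.relIndex (L ⊔ W) =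
          Nat.card L * Nat.card ↥(L ⊓ W) * L.relIndex W := by linarith
      rw [Nat.eq_of_mul_eq_mul_left (Nat.mul_pos Nat.card_pos Nat.card_pos) e4]
  refine ⟨V, ⟨hHW, inf_le_right, ?_, fun w hw => ?_⟩, ?_, hcop⟩
  · exact Subgroup.inf_eq_bot_of_coprime hcop.symm
  · obtain ⟨v, hv, h, hh, rfl⟩ := CoprimeAction.exists_mul_of_mem_sup hVn (hle hw)
    exact ⟨v * h * v⁻¹, (Subgroup.mem_normalizer_iff.1 (hVn hv) h).1 hh, v, hv, by group⟩
  · rw [Subgroup.le_normalizer_iff]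
    exact fun k hk d hd => ⟨L.mul_mem (L.mul_mem (hXL hk) hd.1) (L.inv_mem (hXL hk)),
      (Subgroup.mem_normalizer_iff.1 (hWn (hXM hk)) d).1 hd.2⟩

/-- B&G 16: the data of type P. -/
theorem typeP_of_decomp (hG : Cfsg.IsMinSimpleOddOrder G) (hM : IsCoatom M)
    (hKU : Cfsg.IsSigmaDecomposition M K U) (hK1 : K ≠ ⊥) (hV : Group.IsNilpotent V)
    (hKV : K ≤ Subgroup.normalizer (V : Set G)) (hHV : Cfsg.IsComplIn (Cfsg.fittingHallOf M) V ⁅M, M⁆) :
    Cfsg.IsTypePWith M K V (Cfsg.sigmaCore M ⊓ Subgroup.centralizer (K : Set G)) := by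
  obtain ⟨-, hS1, hSF, hnc⟩ := kappa_star_in_fittingHall hG hM hKU hK1
  have hder := decomp_derived hG hM hKU hK1
  have hK := hKU.hall
  obtain ⟨hUM, -, hUW, hmul⟩ := hKU.compl
  set S := Cfsg.sigmaCore M ⊓ Subgroup.centralizer (K : Set G) with hS
  have hσ' : Cfsg.sigmaCore M ≤ ⁅M, M⁆ := sigmaCore_le_derived hG hM
  have hSM : Cfsg.sigmaCore M ≤ M := Subgroup.map_subtype_le _
  have hinf : ⁅M, M⁆ ⊓ K = ⊥ := by
    rw [eq_bot_iff, hder]
    rintro k ⟨hk, hkK⟩
    obtain ⟨u, hu, s, hs, rfl⟩ := CoprimeAction.exists_mul_of_mem_sup (hUM.trans (le_normalizer_sigmaCore M)) hk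
    have h1 : u ∈ U ⊓ (K ⊔ Cfsg.sigmaCore M) := ⟨hu, by
      have h := mul_mem (Subgroup.mem_sup_left (T := Cfsg.sigmaCore M) hkK) (Subgroup.mem_sup_right (inv_mem hs))
      rwa [mul_inv_cancel_right] at h⟩
    rw [hUW, Subgroup.mem_bot] at h1
    subst h1
    rw [one_mul] at hkK ⊢
    have h2 : s ∈ K ⊓ S := ⟨hkK, hs, Subgroup.mem_centralizer_iff.2 fun a ha => by
      haveI := hKU.cyclic
      haveI : IsMulCommutative K := IsCyclic.isMulCommutative
      exact setLike_mul_comm ha hkK⟩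
    rwa [Subgroup.inf_eq_bot_of_coprime (kappaZ_coprime hK)] at h2
  obtain ⟨Ms, hMs, P⟩ := exists_kappaPair hG hM hK hK1
  have hcyc := (Cfsg.Agent.S1368.result hG M hM K U hKU hK1 Ms hMs P.eq_star P.hall_star).2
  refine
    { W₁_ne := hK1
      W₁_cyclic := hKU.cyclic
      W₁_hall := Nat.coprime_of_dvd fun t ht h1 h2 => hK.2.2 t ht (hK.2.1 t ht h1) h2
      W₁_compl := ⟨Subgroup.commutator_le_self M, hK.1, hinf, fun m hm => ?_⟩
      U_nilpotent := hV
      U_normal := hKV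
      U_compl := hHV
      H_not_cyclic := hnc
      derived_two_le := ?_
      fitting_eq := by rw [fitting_eq hG hM, sup_comm]
      fitting_le := fitting_le_derived hG hM ?_
      W₂_le := le_inf hSF (decomp_star_second_derived hG hM hKU hK1)
      W₂_centralizer := fun x hx hx1 => le_antisymm (fun a ha => ?_) (le_inf (inf_le_left.trans hσ')
        (inf_le_right.trans (Subgroup.centralizer_le (Set.singleton_subset_iff.2 hx))))
      selfNormalizing := ⟨hK1, hS1, Subgroup.inf_eq_bot_of_coprime (kappaZ_coprime hK),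
        fun a ha b hb => Subgroup.mem_centralizer_iff.1 hb.2 a ha, hcyc, fun Y hY hY1 => ?_⟩ }
  · obtain ⟨u, hu, w, hw, rfl⟩ := hmul m hm
    obtain ⟨k, hk, s, hs, rfl⟩ := CoprimeAction.exists_mul_of_mem_sup (hK.1.trans (le_normalizer_sigmaCore M)) hw
    refine ⟨u * (k * s * k⁻¹), ?_, k, hk, by group⟩
    rw [hder]
    exact Subgroup.mul_mem_sup hu ((Subgroup.mem_normalizer_iff.1 (le_normalizer_sigmaCore M (hK.1 hk)) s).1 hs)
  · rw [sup_comm, ← fitting_eq hG hM]
    exact second_derived_le_fitting hG hM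
  · obtain ⟨t, X, ht, hX, hXc⟩ := exists_line_le hK1
    exact ⟨t, hK.2.1 t ht (hXc ▸ Subgroup.card_dvd_of_le hX)⟩
  · have h := ((Cfsg.Agent.S1354.result hG M hM K hKU.cyclic hK).2 hK1 x hx hx1).le
      ⟨Subgroup.commutator_le_self M ha.1, ha.2⟩
    obtain ⟨k, hk, s, hs, rfl⟩ := CoprimeAction.exists_mul_of_mem_sup
      (kappaZ_commute.trans (Subgroup.centralizer_le_normalizer _)) h
    have hk' : k ∈ ⁅M, M⁆ ⊓ K := ⟨((⁅M, M⁆).mul_mem_cancel_right (hσ' hs.1)).1 ha.1, hk⟩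
    rw [hinf, Subgroup.mem_bot] at hk'
    rwa [hk', one_mul]
  · haveI := hcyc
    haveI : IsMulCommutative ↥(K ⊔ S) := IsCyclic.isMulCommutative
    refine le_antisymm (fun g hg => ?_) fun g hg => ?_
    · obtain ⟨a, ha⟩ := hY1
      have h := hY ((Subgroup.mem_set_normalizer_iff.1 hg a).1 ha)
      exact kappaZ_mem_of_conj hG hM hK hK1 (hY ha).1 (fun h' => (hY ha).2 (Or.inl h'))
        (fun h' => (hY ha).2 (Or.inr h')) h.1
    · refine Subgroup.centralizer_le_normalizer _ (Subgroup.mem_centralizer_iff.2 fun a ha => ?_)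
      exact setLike_mul_comm (hY ha).1 hg

/-- A maximal subgroup with data of type P has `κ ≠ ∅`. -/
theorem kappa_nonempty_of_typeP (hG : Cfsg.IsMinSimpleOddOrder G) (hM : IsCoatom M)
    (hP : Cfsg.IsTypePWith M W₁ V W₂) : (Cfsg.kappa M).Nonempty := by
  obtain ⟨t, ht, hd⟩ := Nat.exists_prime_and_dvd fun e => hP.W₁_ne (Subgroup.card_eq_one.1 e)
  haveI := Fact.mk ht
  have hWM : W₁ ≤ M := hP.W₁_compl.2.1
  obtain ⟨x, hx, hxo⟩ := exists_elem_prime (p := t) hd
  have hx1 : x ≠ 1 := fun e => ht.one_lt.ne (by rw [← hxo, e, orderOf_one])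
  obtain ⟨y, hy, hy1⟩ := (Subgroup.bot_or_exists_ne_one _).resolve_left hP.selfNormalizing.2.1
  have hyS : y ∈ Cfsg.sigmaCore M := fittingHallOf_le_sigmaCore hG hM (hP.W₂_le hy).1
  have hxy : x * y = y * x :=
    (Subgroup.mem_centralizer_singleton_iff.1 ((hP.W₂_centralizer x hx hx1).ge hy).2).symm
  obtain ⟨R₀⟩ : Nonempty (Sylow t ↥W₁) := inferInstance
  set R₁ := (R₀ : Subgroup ↥W₁).map W₁.subtype with hR₁
  have hR₁M : R₁ ≤ M := (Subgroup.map_subtype_le _).trans hWM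
  set R := R₁.subgroupOf M with hR
  have hidx : ¬ t ∣ R.index := by
    show ¬ t ∣ R₁.relIndex M
    rw [← Subgroup.relIndex_mul_relIndex R₁ W₁ M (Subgroup.map_subtype_le _) hWM]
    refine fun h => (ht.dvd_mul.1 h).elim (fun h' => ?_) fun h' =>
      Nat.not_coprime_of_dvd_of_dvd ht.one_lt hd h' hP.W₁_hall
    rw [hR₁, Subgroup.relIndex, Subgroup.subgroupOf, Subgroup.comap_map_eq_self_of_injective W₁.subtype_injective] at h'
    exact R₀.not_dvd_index h'
  have hRp : IsPGroup t R := (R₀.isPGroup'.map W₁.subtype).of_equiv (Subgroup.subgroupOfEquivOfLe hR₁M).symm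
  set RS := hRp.toSylow hidx with hRS
  have hxR : (⟨x, hWM hx⟩ : ↥M) ∈ R := by
    refine Subgroup.mem_subgroupOf.2 ⟨⟨x, hx⟩, ?_, rfl⟩
    haveI := hP.W₁_cyclic
    haveI : IsMulCommutative W₁ := IsCyclic.isMulCommutative
    haveI : (R₀ : Subgroup ↥W₁).Normal := ⟨fun a ha b => by
      rw [show b * a * b⁻¹ = a by rw [mul_comm' b a, mul_inv_cancel_right]]; exact ha⟩
    exact CfsgLib.Hall.sylow_le_of_normal_not_dvd (R₀ : Subgroup ↥W₁) R₀.not_dvd_index
      (IsPGroup.of_card (n := 1) (by rw [Nat.card_zpowers, Subgroup.orderOf_mk, hxo, pow_one]))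
      (Subgroup.mem_zpowers (⟨x, hx⟩ : ↥W₁))
  haveI hRc : IsCyclic ↥(RS : Subgroup ↥M) := by
    haveI := hP.W₁_cyclic
    haveI : IsCyclic ↥R₁ := isCyclic_of_surjective _
      ((R₀ : Subgroup ↥W₁).equivMapOfInjective _ W₁.subtype_injective).surjective
    exact isCyclic_of_surjective (Subgroup.subgroupOfEquivOfLe hR₁M).symm
      (Subgroup.subgroupOfEquivOfLe hR₁M).symm.surjective
  have hts : t ∉ Cfsg.sigma M := fun hs => by
    have hxS := le_sigmaCore hG hM hs (Y := Subgroup.zpowers x)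
      (IsPGroup.of_card (n := 1) (by rw [Nat.card_zpowers, hxo, pow_one])) (Subgroup.zpowers_le.2 (hWM hx))
      (Subgroup.mem_zpowers x)
    have h : x ∈ ⁅M, M⁆ ⊓ W₁ := ⟨sigmaCore_le_derived hG hM hxS, hx⟩
    rw [hP.W₁_compl.2.2.1, Subgroup.mem_bot] at h
    exact hx1 h
  refine ⟨t, ht, hxo ▸ Subgroup.orderOf_dvd_natCard M (hWM hx), hts, fun P => ⟨?_, ?_⟩⟩
  · exact isCyclic_of_surjective (Sylow.equiv RS P) (Sylow.equiv RS P).surjective
  · obtain ⟨a, rfl⟩ := MulAction.exists_smul_eq ↥M RS P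
    refine ⟨a * ⟨x, hWM hx⟩ * a⁻¹, ?_, ?_, (a : G) * y * (a : G)⁻¹,
      (Subgroup.mem_normalizer_iff.1 (le_normalizer_sigmaCore M a.2) y).1 hyS, ?_, ?_⟩
    · exact Subgroup.smul_mem_pointwise_smul _ (MulAut.conj a) _ hxR
    · intro h
      exact hx1 (congrArg Subtype.val (conj_eq_one_iff.1 h))
    · intro h
      exact hy1 (conj_eq_one_iff.1 h)
    · show ((a : G) * x * (a : G)⁻¹) * ((a : G) * y * (a : G)⁻¹) = ((a : G) * y * (a : G)⁻¹) * ((a : G) * x * (a : G)⁻¹)
      calc ((a : G) * x * (a : G)⁻¹) * ((a : G) * y * (a : G)⁻¹) = (a : G) * (x * y) * (a : G)⁻¹ := by group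
        _ = (a : G) * (y * x) * (a : G)⁻¹ := by rw [hxy]
        _ = ((a : G) * y * (a : G)⁻¹) * ((a : G) * x * (a : G)⁻¹) := by group

theorem ne_bot_of_typeP (hG : Cfsg.IsMinSimpleOddOrder G) (hM : IsCoatom M)
    (hKU : Cfsg.IsSigmaDecomposition M K U) (hP : Cfsg.IsTypePWith M W₁ V W₂) : K ≠ ⊥ := fun h => by
  have hk := kappa_nonempty_of_typeP hG hM hP
  rw [kappa_empty_of_bot (h ▸ hKU.hall)] at hk
  exact Set.not_nonempty_empty hk

/-- With `U = 1`, a nontrivial complement to `M_F` in `M'` has its normalizer in `M`. -/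
theorem normalizer_le_of_u_bot (hG : Cfsg.IsMinSimpleOddOrder G) (hM : IsCoatom M)
    (hder : ⁅M, M⁆ = Cfsg.sigmaCore M) (hHV : Cfsg.IsComplIn (Cfsg.fittingHallOf M) V ⁅M, M⁆)
    (hV : Group.IsNilpotent V) (hV1 : V ≠ ⊥) : Subgroup.normalizer (V : Set G) ≤ M := by
  obtain ⟨hH, hVd, hHVb, hmul⟩ := hHV
  have hVM : V ≤ M := hVd.trans (Subgroup.commutator_le_self M)
  refine normalizer_le_of_nilpotent_hall hVM hV hV1 fun t ht hd => ?_
  have hts : t ∈ Cfsg.sigma M :=
    mem_sigma_of_dvd M ht (hder ▸ hd.trans (Subgroup.card_dvd_of_le hVd))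
  refine ⟨hts, fun h => ?_⟩
  rw [← Subgroup.relIndex_mul_relIndex V ⁅M, M⁆ M hVd (Subgroup.commutator_le_self M), hder] at h
  refine (ht.dvd_mul.1 h).elim (fun h' => ?_) ((sigmaCore_hallOf hG hM).2.2 t ht hts)
  have hHM : Cfsg.fittingHallOf M ≤ M := Subgroup.map_subtype_le _
  have hcard : Nat.card V * Nat.card ↥(Cfsg.fittingHallOf M) = Nat.card ↥(Cfsg.sigmaCore M) := by
    rw [← hder, mul_comm]
    exact (CfsgLib.TypeP.card_eq_of_isComplIn ⟨hH, hVd, hHVb, hmul⟩).symm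
  have hrel : V.relIndex (Cfsg.sigmaCore M) = Nat.card ↥(Cfsg.fittingHallOf M) := by
    have h2 := card_mul_relIndex (hder ▸ hVd : V ≤ Cfsg.sigmaCore M)
    rw [← hcard] at h2
    exact Nat.eq_of_mul_eq_mul_left Nat.card_pos h2
  rw [hrel] at h'
  have hi : t ∣ (Cfsg.fittingHallOf M).relIndex M := by
    rw [← Subgroup.relIndex_mul_relIndex (Cfsg.fittingHallOf M) ⁅M, M⁆ M hH (Subgroup.commutator_le_self M)]
    refine Dvd.dvd.mul_right ?_ _
    have h2 := card_mul_relIndex hH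
    rw [CfsgLib.TypeP.card_eq_of_isComplIn ⟨hH, hVd, hHVb, hmul⟩] at h2
    rw [Nat.eq_of_mul_eq_mul_left Nat.card_pos h2]
    exact hd
  rw [Cfsg.fittingHallOf, Subgroup.relIndex, Subgroup.subgroupOf,
    Subgroup.comap_map_eq_self_of_injective M.subtype_injective] at hi
  rw [Cfsg.fittingHallOf, Subgroup.card_map_of_injective M.subtype_injective] at h'
  exact Nat.not_coprime_of_dvd_of_dvd ht.one_lt h' hi (CfsgLib.TypeP.fittingHall_coprime ↥M)

/-- With `U ≠ 1`, a complement to `M_σ` in `M'` is not normalized only inside `M`. -/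
theorem not_normalizer_le (hG : Cfsg.IsMinSimpleOddOrder G) (hM : IsCoatom M)
    (hKU : Cfsg.IsSigmaDecomposition M K U) (hK1 : K ≠ ⊥) (hU1 : U ≠ ⊥)
    (hHV : Cfsg.IsComplIn (Cfsg.fittingHallOf M) V ⁅M, M⁆)
    (hNU : ¬ Subgroup.normalizer (U : Set G) ≤ M) :
    ¬ Subgroup.normalizer (V : Set G) ≤ M := by
  intro hN
  have hn := (decomp_fixed hG hM hKU hU1).1
  obtain ⟨hE, hU⟩ := decomp_complement_card hG hM hKU
  haveI := isSolvable_of_ne_top hG hM.1
  rw [(fittingHallOf_eq_iff hG hM).2 hn] at hHV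
  have hder := decomp_derived hG hM hKU hK1
  have hcard : Nat.card V = Nat.card U := by
    have h1 := CfsgLib.TypeP.card_eq_of_isComplIn hHV
    have h2 : Nat.card ↥(U ⊔ Cfsg.sigmaCore M) * Nat.card ↥(U ⊓ Cfsg.sigmaCore M) =
        Nat.card U * Nat.card ↥(Cfsg.sigmaCore M) :=
      ZJ.card_sup_mul_card_inf_of_le_normalizer (hU.1.trans (le_normalizer_sigmaCore M))
    have h3 : U ⊓ Cfsg.sigmaCore M = ⊥ := le_bot_iff.1 (hE.2.2.1 ▸ inf_le_inf_right _ le_sup_right)
    rw [h3, Subgroup.card_bot, mul_one, ← hder, h1, mul_comm] at h2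
    exact Nat.eq_of_mul_eq_mul_right Nat.card_pos h2
  obtain ⟨F, hUF, hF, hconj⟩ := exists_hall_over hU.1 hU.2.1
  have hFU : F ≤ U := le_of_prime_relIndex fun t ht hd hdi => hU.2.2 t ht (hF.2.1 t ht hd)
    (hdi.trans (Dvd.intro _ (Subgroup.relIndex_mul_relIndex U F M hUF hF.1)))
  obtain ⟨a, ha, hle⟩ := hconj V (hHV.2.1.trans (Subgroup.commutator_le_self M))
    fun t ht hd => hU.2.1 t ht (hcard ▸ hd)
  have heq : V.map (MulAut.conj a).toMonoidHom = U := Subgroup.eq_of_le_of_card_ge (hle.trans hFU)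
    (by rw [Subgroup.card_map_of_injective (MulAut.conj a).injective, hcard])
  refine hNU fun g hg => ?_
  have h : a⁻¹ * g * a ∈ Subgroup.normalizer (V : Set G) := by
    refine Subgroup.mem_normalizer_iff.2 fun v => ?_
    have hv : ∀ w : G, w ∈ V ↔ a * w * a⁻¹ ∈ U := fun w => by
      rw [← heq]
      constructor
      · exact fun hw => ⟨w, hw, rfl⟩
      · rintro ⟨w', hw', he⟩
        rwa [← (MulAut.conj a).injective he]
    rw [hv, hv, Subgroup.mem_normalizer_iff.1 hg (a * v * a⁻¹)]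
    group
  have h2 := M.mul_mem (M.mul_mem ha (hN h)) (M.inv_mem ha)
  rwa [show a * (a⁻¹ * g * a) * a⁻¹ = g by group] at h2

end CfsgLib.BGFifteen
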