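import Cfsg.Agent.BGFifteen.TI
import Cfsg.Agent.BGFifteen.FrobeniusLayer
import Cfsg.Agent.BGFifteen.TypeData

/-!
B&G 15.2: the structure of the normal Sylow `q`-subgroup when `M_F ≠ M_σ`.
-/

set_option autoImplicit false
set_option linter.unusedSectionVars false
set_option linter.style.haveILetI false

namespace CfsgLib.BGFifteen

open CfsgLib.BenderUnique CfsgLib.Uniq CfsgLib.SigmaGroups
open scoped commutatorElement

variable {G : Type*} [Group G] [Finite G] {M K U : Subgroup G}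

/-- A complement of the normal Sylow subgroup invariant under `K`, and its fixed points. -/
theorem q_layer (hG : Cfsg.IsMinSimpleOddOrder G) (hM : IsCoatom M)
    (hn : ¬ Group.IsNilpotent (Cfsg.sigmaCore M)) (hE : Cfsg.IsComplIn K (Cfsg.sigmaCore M) M) {q : ℕ}
    (hq : q = Nat.card ↥(Cfsg.sigmaCore M ⊓ Subgroup.centralizer (K : Set G))) {Q : Subgroup G}
    (hQH : Q ≤ Cfsg.sigmaCore M) (hQM : M ≤ Subgroup.normalizer (Q : Set G)) (hQq : IsPGroup q Q)
    (hQi : ¬ q ∣ Q.relIndex M) (hSQ : Cfsg.sigmaCore M ⊓ Subgroup.centralizer (K : Set G) ≤ Q) :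
    ∃ D : Subgroup G, Cfsg.IsComplIn Q D (Cfsg.sigmaCore M) ∧ (Nat.card D).Coprime q ∧
      M ≤ Subgroup.normalizer ((Q ⊓ Subgroup.centralizer (D : Set G) : Subgroup G) : Set G) ∧
      Q ⊓ Subgroup.centralizer (D : Set G) < Q ∧
      (frattini ↥Q).map Q.subtype ≤ Q ⊓ Subgroup.centralizer (D : Set G) ∧
      Nat.card Q = Nat.card ↥(Q ⊓ Subgroup.centralizer (D : Set G)) * q ^ Nat.card K ∧
      ∀ N : Subgroup G, Q ⊓ Subgroup.centralizer (D : Set G) < N → N < Q →
        ¬ M ≤ Subgroup.normalizer (N : Set G) := by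
  subst hq
  obtain ⟨hK, hK1, hcyc, hqp, -⟩ := core_of_not_nilpotent hG hM hn hE
  obtain ⟨hKprime, -⟩ := not_nilpotent_data hG hM hn hE
  haveI := Fact.mk hqp
  haveI := isSolvable_of_ne_top hG hM.1
  set H := Cfsg.sigmaCore M with hH
  set S := H ⊓ Subgroup.centralizer (K : Set G) with hS
  set q := Nat.card S with hqdef
  have hHM : H ≤ M := Subgroup.map_subtype_le _
  have hQMle : Q ≤ M := hQH.trans hHM
  have hKM : K ≤ M := hK.1
  have hqσ : q ∈ Cfsg.sigma M := mem_sigma_of_dvd M hqp (Subgroup.card_dvd_of_le inf_le_left)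
  obtain ⟨nQ, hnQ⟩ := hQq.exists_card_eq
  have hHall : (Nat.card Q).Coprime (Q.relIndex M) := by
    rw [hnQ]
    exact (hqp.coprime_iff_not_dvd.2 hQi).pow_left nQ
  have hcopK : (Nat.card K).Coprime (Nat.card Q) := by
    rw [hnQ]
    exact ((hqp.coprime_iff_not_dvd.2 fun h => (hK.2.1 q hqp h).2.2.1 hqσ).symm).pow_right nQ
  obtain ⟨D, hcomp, hKD, hDQ⟩ := exists_complement_invariant hQH hHM hKM hQM (le_normalizer_sigmaCore M) hHall hcopK
  have hDH : D ≤ H := hcomp.2.1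
  have hDM : D ≤ M := hDH.trans hHM
  have hnc : ¬ D ≤ Subgroup.centralizer (Q : Set G) := fun hc => by
    refine hn ?_
    have hDnil : Group.IsNilpotent ↥D := by
      obtain ⟨-, -, -, -, Q₁, hQ₁n, -, -, hQ₁q, hQ₁i, -, hnil⟩ := core_of_not_nilpotent hG hM hn hE
      haveI := hnil
      let f : ↥(D.subgroupOf M) →* ↥((H.subgroupOf M).map (QuotientGroup.mk' Q₁)) :=
        ((QuotientGroup.mk' Q₁).subgroupMap (H.subgroupOf M)).comp (Subgroup.inclusion fun x hx => hDH hx)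
      haveI : Group.IsNilpotent ↥(D.subgroupOf M) := CfsgLib.CN.MinOdd.isNilpotent_of_inj f fun a b hab => by
        have h := (QuotientGroup.eq (s := Q₁)).1 (congrArg Subtype.val hab)
        have h2 : (((a : ↥M)⁻¹ * (b : ↥M) : ↥M) : G) ∈ D ⊓ Q₁.map M.subtype :=
          ⟨D.mul_mem (D.inv_mem a.2) b.2, _, h, rfl⟩
        have hbot : D ⊓ Q₁.map M.subtype = ⊥ := Subgroup.inf_eq_bot_of_coprime (by
          obtain ⟨n, hn'⟩ := (hQ₁q.map M.subtype).exists_card_eq
          rw [hn']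
          refine ((hqp.coprime_iff_not_dvd.2 fun h' => ?_).symm).pow_right n
          exact Nat.not_coprime_of_dvd_of_dvd hqp.one_lt h'
            (Subgroup.card_dvd_of_le hSQ) hDQ)
        rw [hbot, Subgroup.mem_bot] at h2
        exact Subtype.ext (inv_mul_eq_one.1 (Subtype.ext h2))
      exact Group.nilpotent_of_mulEquiv (Subgroup.subgroupOfEquivOfLe hDM)
    haveI := nilpotent_sup hDnil hQq.isNilpotent
      (sup_le Subgroup.le_normalizer ((Subgroup.le_centralizer_iff.1 hc).trans (Subgroup.centralizer_le_normalizer _)))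
      (sup_le (hDM.trans hQM) Subgroup.le_normalizer)
    refine Group.nilpotent_of_mulEquiv (Subgroup.subgroupOfEquivOfLe (fun h hh => ?_ : H ≤ D ⊔ Q))
    obtain ⟨a, ha, b, hb, rfl⟩ := hcomp.2.2.2 h hh
    exact mul_mem (Subgroup.mem_sup_right ha) (Subgroup.mem_sup_left hb)
  obtain ⟨U, hU⟩ := exists_decomp hG hM hcyc hK
  have hfix : ∀ x ∈ K, x ≠ 1 → H ⊓ Subgroup.centralizer ({x} : Set G) ≤ S := fun x hx hx1 => by
    obtain ⟨t, X, ht, hX, hXc, hC⟩ := exists_line_of_mem hx hx1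
    rw [hS, ← ((decomp_kappa_structure hG hM hU hK1).2 X hX (by rw [hXc]; exact ht)).1]
    exact inf_le_inf_left _ hC
  have hDK : D ⊓ K = ⊥ := le_bot_iff.1 ((inf_le_inf_right _ hDH).trans (by rw [inf_comm, hE.2.2.1]))
  have hDQ' : D ⊓ Q = ⊥ := Subgroup.inf_eq_bot_of_coprime hDQ
  have hfrob : ∀ r ∈ K, r ≠ 1 → D ⊓ Subgroup.centralizer ({r} : Set G) = ⊥ := fun r hr hr1 =>
    le_bot_iff.1 (hDQ' ▸ le_inf inf_le_left ((inf_le_inf_right _ hDH).trans ((hfix r hr hr1).trans hSQ)))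
  have hcop : (Nat.card ↥(D ⊔ K)).Coprime (Nat.card Q) := by
    refine (Nat.Coprime.mul_left hDQ hcopK).coprime_dvd_left ?_
    have h : Nat.card ↥(K ⊔ D) ∣ Nat.card K * Nat.card D :=
      Dvd.intro _ (ZJ.card_sup_mul_card_inf_of_le_normalizer hKD)
    rwa [sup_comm, mul_comm] at h
  have hQS : Q ⊓ Subgroup.centralizer (K : Set G) = S :=
    le_antisymm (inf_le_inf_right _ hQH) (le_inf hSQ inf_le_right)
  haveI hSc : IsCyclic S := isCyclic_of_prime_card (p := q) rfl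
  have hpr : ∀ x ∈ K, x ≠ 1 →
      Q ⊓ Subgroup.centralizer ({x} : Set G) = Q ⊓ Subgroup.centralizer (K : Set G) := fun x hx hx1 =>
    le_antisymm (le_inf inf_le_left ((inf_le_inf_right _ hQH).trans ((hfix x hx hx1).trans inf_le_right)))
      (inf_le_inf_left _ (Subgroup.centralizer_le (Set.singleton_subset_iff.2 hx)))
  obtain ⟨-, -, htop⟩ := frobenius_on_pgroup (K := D) (R := K) hQq hK1 hDK hKD hfrob (hDM.trans hQM)
    (hKM.trans hQM) hcop hnc hpr (hQS ▸ hSc)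
  set Φ := (frattini ↥Q).map Q.subtype with hΦ
  have hΦQ : Φ ≤ Q := Subgroup.map_subtype_le _
  have hMΦ : M ≤ Subgroup.normalizer (Φ : Set G) := by
    rw [Subgroup.le_normalizer_iff]
    rintro g hg _ ⟨w, hw, rfl⟩
    exact ⟨Q.normalizerMonoidHom ⟨g, hQM hg⟩ w,
      (Subgroup.characteristic_iff_map_le.1 (inferInstance : (frattini ↥Q).Characteristic) _) ⟨w, hw, rfl⟩, rfl⟩
  have hΦc : D ≤ Subgroup.centralizer (Φ : Set G) := by
    by_contra hne
    obtain ⟨-, -, h⟩ := frobenius_on_pgroup (K := D) (R := K) (hQq.to_le hΦQ) hK1 hDK hKD hfrob (hDM.trans hMΦ)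
      (hKM.trans hMΦ) (hcop.coprime_dvd_right (Subgroup.card_dvd_of_le hΦQ)) hne
      (fun x hx hx1 => le_antisymm (le_inf inf_le_left
        ((inf_le_inf_right _ hΦQ).trans ((hpr x hx hx1).le.trans inf_le_right)))
        (inf_le_inf_left _ (Subgroup.centralizer_le (Set.singleton_subset_iff.2 hx))))
      (Subgroup.isCyclic_of_le ((inf_le_inf_right _ hΦQ).trans hQS.le))
    refine h ?_
    have hle : Φ ⊓ Subgroup.centralizer (K : Set G) ≤ S := (inf_le_inf_right _ hΦQ).trans hQS.le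
    rcases (Nat.dvd_prime hqp).1 (Subgroup.card_dvd_of_le hle) with e | e
    · rw [Subgroup.card_eq_one.1 e]; exact bot_le
    · have he := Subgroup.eq_of_le_of_card_ge hle e.ge
      exact absurd (hQS.le.trans (he.ge.trans inf_le_left)) htop
  set Q₀ := Q ⊓ Subgroup.centralizer (D : Set G) with hQ₀
  have hΦ0 : Φ ≤ Q₀ := le_inf hΦQ (Subgroup.le_centralizer_iff.1 hΦc)
  have hcommQ : ∀ a ∈ Q, ∀ b ∈ Q, a * b * a⁻¹ * b⁻¹ ∈ Q₀ := fun a ha b hb =>
    hΦ0 ⟨⁅(⟨a, ha⟩ : Q), ⟨b, hb⟩⁆, CoprimeAction.commutator_le_frattini' hQq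
      (Subgroup.commutator_mem_commutator (Subgroup.mem_top _) (Subgroup.mem_top _)), rfl⟩
  have hM0 : M ≤ Subgroup.normalizer (Q₀ : Set G) := by
    have hQn : Q ≤ Subgroup.normalizer (Q₀ : Set G) := by
      rw [Subgroup.le_normalizer_iff]
      intro a ha b hb
      have h := mul_mem (hcommQ a ha b hb.1) hb
      rwa [inv_mul_cancel_right] at h
    have hXn : ∀ X : Subgroup G, X ≤ M → X ≤ Subgroup.normalizer (D : Set G) →
        X ≤ Subgroup.normalizer (Q₀ : Set G) := by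
      intro X hXM hXD
      rw [Subgroup.le_normalizer_iff]
      refine fun a ha b hb => ⟨(Subgroup.mem_normalizer_iff.1 (hQM (hXM ha)) b).1 hb.1,
        Subgroup.mem_centralizer_iff.2 fun d hd => ?_⟩
      have h1 : a⁻¹ * d * a ∈ D := (Subgroup.mem_normalizer_iff''.1 (hXD ha) d).1 hd
      have h2 := Subgroup.mem_centralizer_iff.1 hb.2 _ h1
      calc d * (a * b * a⁻¹) = a * ((a⁻¹ * d * a) * b) * a⁻¹ := by group
        _ = a * (b * (a⁻¹ * d * a)) * a⁻¹ := by rw [h2]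
        _ = a * b * a⁻¹ * d := by group
    intro m hm
    obtain ⟨k, hk, h, hh, rfl⟩ := hE.2.2.2 m hm
    obtain ⟨a, ha, d, hd, rfl⟩ := hcomp.2.2.2 h hh
    exact mul_mem (hXn K hKM hKD hk) (mul_mem (hQn ha) (hXn D hDM Subgroup.le_normalizer hd))
  have hlt : Q₀ < Q := lt_of_le_of_ne inf_le_left fun h =>
    hnc (Subgroup.le_centralizer_iff.1 (inf_eq_left.1 h))
  have hlayer : ∀ N : Subgroup G, Q₀ < N → N ≤ Q → M ≤ Subgroup.normalizer (N : Set G) →
      Nat.card N = Nat.card Q₀ * q ^ Nat.card K := fun N hN0 hNQ hMN =>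
    layer_card hN0.le (hNQ.trans hQMle) hDM hKM hM0 (hQq.to_le hNQ) (hDM.trans hMN) (hKM.trans hMN)
      (hcop.coprime_dvd_right (Subgroup.card_dvd_of_le hNQ)) hKprime hDK hKD hfrob
      (inf_le_inf_right _ hNQ) (Subgroup.card_dvd_of_le ((inf_le_inf_right _ hNQ).trans hQS.le)) hN0.ne
  have hQcard := hlayer Q hlt le_rfl hQM
  refine ⟨D, hcomp, ?_, hM0, hlt, hΦ0, hQcard, fun N hN0 hNQ hMN => ?_⟩
  · exact Nat.Coprime.coprime_dvd_right (Subgroup.card_dvd_of_le hSQ) hDQ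
  · exact hNQ.ne (Subgroup.eq_of_le_of_card_ge hNQ.le (by rw [hQcard, hlayer N hN0 hNQ.le hMN]))

theorem fittingHall_ne_structure (hG : Cfsg.IsMinSimpleOddOrder G) (hM : IsCoatom M)
    (hKU : Cfsg.IsSigmaDecomposition M K U) (hne : Cfsg.fittingHallOf M ≠ Cfsg.sigmaCore M) :
    U = ⊥ ∧ Cfsg.sigmaCore M = ⁅M, M⁆ ∧ (Nat.card K).Prime ∧ (Nat.card ↥(Cfsg.sigmaCore M ⊓ Subgroup.centralizer (K : Set G))).Prime ∧
      Nat.card ↥(Cfsg.sigmaCore M ⊓ Subgroup.centralizer (K : Set G)) ∣ Nat.card (Cfsg.fittingHallOf M) ∧ Nat.card ↥(Cfsg.sigmaCore M ⊓ Subgroup.centralizer (K : Set G)) ∈ Cfsg.beta M ∧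
      ∃ Q : Subgroup G, Q ≤ Cfsg.fittingHallOf M ∧ M ≤ Subgroup.normalizer (Q : Set G) ∧ IsPGroup (Nat.card ↥(Cfsg.sigmaCore M ⊓ Subgroup.centralizer (K : Set G))) Q ∧
        ¬ Nat.card ↥(Cfsg.sigmaCore M ⊓ Subgroup.centralizer (K : Set G)) ∣ Q.relIndex (Cfsg.sigmaCore M) ∧
        ∀ D : Subgroup G, Cfsg.IsComplIn Q D (Cfsg.sigmaCore M) →
          Group.IsNilpotent D ∧ M ≤ Subgroup.normalizer ((Q ⊓ Subgroup.centralizer (D : Set G) : Subgroup G) : Set G) ∧
          Q ⊓ Subgroup.centralizer (D : Set G) < Q ∧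
          Nat.card Q = Nat.card ↥(Q ⊓ Subgroup.centralizer (D : Set G)) * Nat.card ↥(Cfsg.sigmaCore M ⊓ Subgroup.centralizer (K : Set G)) ^ Nat.card K ∧
          (∀ a ∈ Q, ∀ b ∈ Q, a ^ Nat.card ↥(Cfsg.sigmaCore M ⊓ Subgroup.centralizer (K : Set G)) ∈ Q ⊓ Subgroup.centralizer (D : Set G) ∧
            a * b * a⁻¹ * b⁻¹ ∈ Q ⊓ Subgroup.centralizer (D : Set G)) ∧
          ∀ N : Subgroup G, Q ⊓ Subgroup.centralizer (D : Set G) < N → N < Q → ¬ M ≤ Subgroup.normalizer (N : Set G) := by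
  obtain ⟨hU, -, hKprime⟩ := fittingHall_ne_data hG hM hKU hne
  have hn : ¬ Group.IsNilpotent (Cfsg.sigmaCore M) := fun h => hne ((fittingHallOf_eq_iff hG hM).2 h)
  have hE : Cfsg.IsComplIn K (Cfsg.sigmaCore M) M :=
    isComplIn_kappa hG hM hKU.hall fun t ht hd hs => kappa_of_not_nilpotent hG hM hn ht hd hs
  obtain ⟨hK, hK1, -, hqp, Q₁, hQ₁n, hQ₁H, -, hQ₁q, hQ₁i, hCQ, hnil⟩ := core_of_not_nilpotent hG hM hn hE
  haveI := Fact.mk hqp
  haveI := isSolvable_of_ne_top hG hM.1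
  have hder := decomp_derived hG hM hKU hK1
  rw [hU, bot_sup_eq] at hder
  set H := Cfsg.sigmaCore M with hH
  set q := Nat.card ↥(H ⊓ Subgroup.centralizer (K : Set G)) with hqdef
  have hHM : H ≤ M := Subgroup.map_subtype_le _
  have hqσ : q ∈ Cfsg.sigma M := mem_sigma_of_dvd M hqp (Subgroup.card_dvd_of_le inf_le_left)
  set Q := Q₁.map M.subtype with hQ
  have hQF : Q ≤ Cfsg.fittingHallOf M := Subgroup.map_mono (sylow_le_fittingHall hqp hQ₁n hQ₁q hQ₁i)
  have hQM : M ≤ Subgroup.normalizer (Q : Set G) := PReduced.le_normalizer_map_subtype M Q₁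
  have hQq : IsPGroup q Q := hQ₁q.map _
  have hQi : ¬ q ∣ Q.relIndex M := by
    rwa [hQ, Subgroup.relIndex, Subgroup.subgroupOf, Subgroup.comap_map_eq_self_of_injective M.subtype_injective]
  have hQr : ¬ q ∣ Q.relIndex H := fun h => hQi (h.trans (relIndex_dvd_of_normal hQM hHM))
  have hβ : q ∈ Cfsg.beta M := by
    by_contra hb
    refine hn ?_
    set C := H ⊓ Subgroup.centralizer (Q : Set G) with hC
    have hsup : H ≤ C ⊔ Q := le_of_prime_subgroups fun t ht T hT hTH => by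
      haveI := Fact.mk ht
      by_cases htq : t = q
      · refine le_sup_of_le_right (le_of_prime_relIndex fun s hs hd hdi => ?_)
        have h := hdi.trans (relIndex_dvd_of_normal hQM (hTH.trans hHM))
        rw [primes_of_pgroup ht hT s hs hd, htq] at h
        exact hQi h
      · refine le_sup_of_le_left (le_inf hTH (le_centralizer_of_not_beta hG hM hqσ hb hQq
          (hQ₁H.trans hHM) (hTH.trans (sigmaCore_le_derived hG hM)) ?_ ((hTH.trans hHM).trans hQM)))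
        obtain ⟨n, hn'⟩ := hT.exists_card_eq
        rw [hn']
        exact ((Nat.coprime_primes ht hqp).2 htq).pow_left n
    have hQC : Q ≤ Subgroup.normalizer (C : Set G) := by
      rw [Subgroup.le_normalizer_iff]
      refine fun m hm c hc => ⟨(Subgroup.mem_normalizer_iff.1
        (le_normalizer_sigmaCore M (hHM (hQ₁H hm))) c).1 hc.1, ?_⟩
      rw [(show Commute m c from Subgroup.mem_centralizer_iff.1 hc.2 m hm).eq, mul_inv_cancel_right]
      exact hc.2
    haveI := nilpotent_sup (sigma_centralizer_nilpotent (M := M) hnil) hQq.isNilpotent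
      (sup_le Subgroup.le_normalizer hQC) (sup_le ((inf_le_left.trans hHM).trans hQM) Subgroup.le_normalizer)
    exact Group.nilpotent_of_mulEquiv (Subgroup.subgroupOfEquivOfLe hsup)
  obtain ⟨D₀, hcomp₀, hD₀q, hM0, hlt, hΦ, hcard, hchief⟩ := q_layer hG hM hn hE hqdef hQ₁H hQM hQq hQi hCQ
  refine ⟨hU, hder.symm, hKprime, hqp, Subgroup.card_dvd_of_le (hCQ.trans hQF), hβ, Q, hQF, hQM, hQq, hQr,
    fun D hD => ?_⟩
  have hDQ : D ⊓ Q = ⊥ := by rw [inf_comm]; exact hD.2.2.1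
  have hDcard : Nat.card D = Nat.card D₀ := by
    have h1 := CfsgLib.TypeP.card_eq_of_isComplIn hD
    rw [CfsgLib.TypeP.card_eq_of_isComplIn hcomp₀] at h1
    exact (Nat.eq_of_mul_eq_mul_left Nat.card_pos h1).symm
  have hDnil : Group.IsNilpotent ↥D := by
    haveI := hnil
    let f : ↥(D.subgroupOf M) →* ↥((H.subgroupOf M).map (QuotientGroup.mk' Q₁)) :=
      ((QuotientGroup.mk' Q₁).subgroupMap (H.subgroupOf M)).comp (Subgroup.inclusion fun x hx => hD.2.1 hx)
    haveI : Group.IsNilpotent ↥(D.subgroupOf M) := CfsgLib.CN.MinOdd.isNilpotent_of_inj f fun a b hab => by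
      have h := (QuotientGroup.eq (s := Q₁)).1 (congrArg Subtype.val hab)
      have h2 : (((a : ↥M)⁻¹ * (b : ↥M) : ↥M) : G) ∈ D ⊓ Q := ⟨D.mul_mem (D.inv_mem a.2) b.2, _, h, rfl⟩
      rw [hDQ, Subgroup.mem_bot] at h2
      exact Subtype.ext (inv_mul_eq_one.1 (Subtype.ext h2))
    exact Group.nilpotent_of_mulEquiv (Subgroup.subgroupOfEquivOfLe (hD.2.1.trans hHM))
  haveI : Group.IsSolvable H := isSolvable_of_ne_top hG fun h => hM.1 (top_le_iff.1 (h ▸ hHM))
  obtain ⟨F, hD₀F, hF, hconj⟩ := exists_hall_over (π := {t : ℕ | t ≠ q}) hcomp₀.2.1 fun t ht hd he =>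
    hqp.coprime_iff_not_dvd.1 hD₀q.symm (he ▸ hd)
  have hFD : F ≤ D₀ := le_of_prime_relIndex fun t ht hd hdi => by
    have h := hdi.trans (Dvd.intro _ (Subgroup.relIndex_mul_relIndex D₀ F H hD₀F hF.1))
    have hrel : D₀.relIndex H = Nat.card Q := by
      have h1 := card_mul_relIndex hcomp₀.2.1
      rw [CfsgLib.TypeP.card_eq_of_isComplIn hcomp₀, mul_comm (Nat.card Q)] at h1
      exact Nat.eq_of_mul_eq_mul_left Nat.card_pos h1
    rw [hrel] at h
    exact hF.2.1 t ht hd (primes_of_pgroup hqp hQq t ht h)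
  obtain ⟨a, ha, hle⟩ := hconj D hD.2.1 fun t ht hd he =>
    hqp.coprime_iff_not_dvd.1 hD₀q.symm (he ▸ hDcard ▸ hd)
  have heq : D.map (MulAut.conj a).toMonoidHom = D₀ := Subgroup.eq_of_le_of_card_ge (hle.trans hFD)
    (by rw [Subgroup.card_map_of_injective (MulAut.conj a).injective, hDcard])
  have hQa : Q.map (MulAut.conj a).toMonoidHom = Q := Subgroup.mem_normalizer_iff_map_conj_eq.1 (hQM (hHM ha))
  have hQ0eq : Q ⊓ Subgroup.centralizer (D : Set G) = Q ⊓ Subgroup.centralizer (D₀ : Set G) := by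
    have hmap : (Q ⊓ Subgroup.centralizer (D : Set G)).map (MulAut.conj a).toMonoidHom =
        Q ⊓ Subgroup.centralizer (D₀ : Set G) := by
      rw [← heq, Subgroup.map_inf _ _ _ (MulAut.conj a).injective, hQa]
      congr 1
      ext g
      constructor
      · rintro ⟨w, hw, rfl⟩
        rw [Subgroup.mem_centralizer_iff]
        rintro _ ⟨d, hd, rfl⟩
        rw [← map_mul, Subgroup.mem_centralizer_iff.1 hw d hd, map_mul]
      · intro hg
        refine ⟨(MulAut.conj a).symm g, Subgroup.mem_centralizer_iff.2 fun d hd => ?_, (MulAut.conj a).apply_symm_apply g⟩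
        apply (MulAut.conj a).injective
        rw [map_mul, map_mul, (MulAut.conj a).apply_symm_apply]
        exact Subgroup.mem_centralizer_iff.1 hg _ ⟨d, hd, rfl⟩
    refine Subgroup.map_injective (f := (MulAut.conj a).toMonoidHom) (MulAut.conj a).injective ?_
    exact hmap.trans (Subgroup.mem_normalizer_iff_map_conj_eq.1 (hM0 (hHM ha))).symm
  rw [hQ0eq]
  exact ⟨hDnil, hM0, hlt, hcard, fun x hx y hy =>
    ⟨hΦ ⟨(⟨x, hx⟩ : Q) ^ q, CoprimeAction.pow_mem_frattini hQq _, rfl⟩,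
      hΦ ⟨⁅(⟨x, hx⟩ : Q), ⟨y, hy⟩⁆, CoprimeAction.commutator_le_frattini' hQq
        (Subgroup.commutator_mem_commutator (Subgroup.mem_top _) (Subgroup.mem_top _)), rfl⟩⟩, hchief⟩

end CfsgLib.BGFifteen
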