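import Cfsg.Agent.BGFifteen.Core
import Cfsg.Agent.Sigma.KappaExistence

/-!
B&G 14.7 / 15.2: when `M_σ` is not nilpotent, `K*` has prime order `q`, a normal Sylow `q`-subgroup exists
and the quotient by it is nilpotent.
-/

set_option autoImplicit false
set_option linter.unusedSectionVars false
set_option linter.style.haveILetI false

namespace CfsgLib.BGFifteen

open CfsgLib.BenderUnique CfsgLib.Uniq CfsgLib.SigmaGroups
open scoped commutatorElement

universe u

variable {G : Type u} [Group G] [Finite G] {M Ms E K : Subgroup G}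

/-- B&G 14.7: of a pair, one has a prime outside `σ ∪ κ`; hence in the `P₁` case `K*` has prime order. -/
theorem star_prime (hG : Cfsg.IsMinSimpleOddOrder G) (hM : IsCoatom M)
    (hK : Cfsg.IsPiHallOf (Cfsg.kappa M) K M) (hK1 : K ≠ ⊥)
    (hall : ∀ t : ℕ, t.Prime → t ∣ Nat.card M → t ∉ Cfsg.sigma M → t ∈ Cfsg.kappa M) :
    (Nat.card ↥(Cfsg.sigmaCore M ⊓ Subgroup.centralizer (K : Set G))).Prime := by
  classical
  obtain ⟨Ms, hMs, P⟩ := exists_kappaPair hG hM hK hK1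
  set S := Cfsg.sigmaCore M ⊓ Subgroup.centralizer (K : Set G) with hS
  by_cases hex : ∃ t : ℕ, t.Prime ∧ t ∣ Nat.card Ms ∧ t ∉ Cfsg.sigma Ms ∧ t ∉ Cfsg.kappa Ms
  · obtain ⟨t, ht, hd, hts, htk⟩ := hex
    exact @prime_card_of_dvd_non_kappa G _ _ _ Ms S hG hMs P.hall_star (kappaStar_ne_bot hG hM hK hK1) ⟨ht⟩
      hd hts htk
  exfalso
  push Not at hex
  have hne : M ≠ Ms := fun h => P.not_conj hG hM hMs 1 (by rw [map_conj_one, h])
  let Kf : Subgroup G → Subgroup G := fun L => if L = M then K else S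
  have hKfM : Kf M = K := if_pos rfl
  have hKfMs : Kf Ms = S := if_neg fun h => hne h.symm
  refine false_of_p1_family hG {M, Ms} Kf (Z := K ⊔ S) (by rw [Finset.card_pair hne]) (fun L hL => ?_) fun w hw hwp => ?_
  · rcases Finset.mem_insert.1 hL with rfl | hL'
    · rw [hKfM]
      exact ⟨hM, hK, hK1, isComplIn_kappa hG hM hK hall, rfl⟩
    · rw [Finset.mem_singleton] at hL'
      subst hL'
      rw [hKfMs]
      refine ⟨hMs, P.hall_star, kappaStar_ne_bot hG hM hK hK1,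
        isComplIn_kappa hG hMs P.hall_star fun t ht hd hs => hex t ht hd hs, ?_⟩
      rw [P.star_eq hG hM hMs, sup_comm]
  · obtain ⟨u, hu, v, hv, he, hc, huz, hvz⟩ := kappaZ_decomp hK hw
    rcases hwp.eq_one_or_self_of_dvd _ (orderOf_dvd_of_mem_zpowers hvz) with h1 | h1
    · refine ⟨Ms, by simp, ?_⟩
      rw [← he, orderOf_eq_one_iff.1 h1, mul_one]
      exact (P.eq_star.le hu).1
    · refine ⟨M, by simp, ?_⟩
      have hzz : Subgroup.zpowers v = Subgroup.zpowers w := Subgroup.eq_of_le_of_card_ge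
        (Subgroup.zpowers_le.2 hvz) (by rw [Nat.card_zpowers, Nat.card_zpowers, h1])
      exact (Subgroup.zpowers_le.2 hv.1 : Subgroup.zpowers v ≤ _) (hzz ▸ Subgroup.mem_zpowers w)

/-- The data available when `M_σ` is not nilpotent. -/
theorem core_of_not_nilpotent (hG : Cfsg.IsMinSimpleOddOrder G) (hM : IsCoatom M)
    (hn : ¬ Group.IsNilpotent (Cfsg.sigmaCore M)) (hE : Cfsg.IsComplIn E (Cfsg.sigmaCore M) M) :
    Cfsg.IsPiHallOf (Cfsg.kappa M) E M ∧ E ≠ ⊥ ∧ IsCyclic E ∧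
      (Nat.card ↥(Cfsg.sigmaCore M ⊓ Subgroup.centralizer (E : Set G))).Prime ∧
      ∃ Q : Subgroup ↥M, ∃ _ : Q.Normal, Q.map M.subtype ≤ Cfsg.sigmaCore M ∧ Q ≠ ⊥ ∧
        IsPGroup (Nat.card ↥(Cfsg.sigmaCore M ⊓ Subgroup.centralizer (E : Set G))) Q ∧
        ¬ Nat.card ↥(Cfsg.sigmaCore M ⊓ Subgroup.centralizer (E : Set G)) ∣ Q.index ∧
        Cfsg.sigmaCore M ⊓ Subgroup.centralizer (E : Set G) ≤ Q.map M.subtype ∧
        Group.IsNilpotent ↥(((Cfsg.sigmaCore M).subgroupOf M).map (QuotientGroup.mk' Q)) := by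
  have hall : ∀ t : ℕ, t.Prime → t ∣ Nat.card M → t ∉ Cfsg.sigma M → t ∈ Cfsg.kappa M :=
    fun t ht hd hs => kappa_of_not_nilpotent hG hM hn ht hd hs
  have hK := hall_kappa_of_all hG hM hE hall
  set H := Cfsg.sigmaCore M with hH
  have hHM : H ≤ M := Subgroup.map_subtype_le _
  have hE1 : E ≠ ⊥ := fun h => by
    refine (derived_lt hG hM).not_ge fun m hm => ?_
    obtain ⟨e, he, s, hs, rfl⟩ := hE.2.2.2 m hm
    rw [h, Subgroup.mem_bot] at he
    rw [he, one_mul]
    exact sigmaCore_le_derived hG hM hs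
  set S := H ⊓ Subgroup.centralizer (E : Set G) with hS
  have hq := star_prime hG hM hK hE1 hall
  obtain ⟨p, X, hp, hXE, hXc⟩ := exists_line_le hE1
  haveI := Fact.mk hp
  haveI := Fact.mk hq
  haveI := isSolvable_of_ne_top hG hM.1
  have hXM : X ≤ M := hXE.trans hE.1
  have hfixX : H ⊓ Subgroup.centralizer (X : Set G) = S := by
    obtain ⟨_, _, -, -, -, -, -, -, -, hlines⟩ := kappa_complement_structure hG hM hK hE1
    exact (hlines X hXE (by rw [hXc]; exact hp)).1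
  set H0 := H.subgroupOf M with hH0
  set R0 := X.subgroupOf M with hR0
  haveI : H0.Normal := Subgroup.normal_subgroupOf_of_le_normalizer (le_normalizer_sigmaCore M)
  have hmapH : H0.map M.subtype = H := Subgroup.map_subgroupOf_eq_of_le hHM
  have hmapC : (H0 ⊓ Subgroup.centralizer (R0 : Set ↥M)).map M.subtype = S := by
    rw [← hfixX]
    ext g
    constructor
    · rintro ⟨x, ⟨hx, hxc⟩, rfl⟩
      refine Subgroup.mem_inf.2 ⟨Subgroup.mem_subgroupOf.1 hx, Subgroup.mem_centralizer_iff.2 fun r hr => ?_⟩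
      exact congrArg Subtype.val (Subgroup.mem_centralizer_iff.1 hxc ⟨r, hXM hr⟩ (Subgroup.mem_subgroupOf.2 hr))
    · rintro ⟨hg, hgc⟩
      exact ⟨⟨g, hHM hg⟩, ⟨Subgroup.mem_subgroupOf.2 hg, Subgroup.mem_centralizer_iff.2 fun r hr =>
        Subtype.ext (Subgroup.mem_centralizer_iff.1 hgc _ (Subgroup.mem_subgroupOf.1 hr))⟩, rfl⟩
  have hR : Nat.card R0 = p := by
    rw [hR0, Nat.card_congr (Subgroup.subgroupOfEquivOfLe hXM).toEquiv, hXc]
  have hps : p ∉ Cfsg.sigma M := (hK.2.1 p hp (hXc ▸ Subgroup.card_dvd_of_le hXE)).2.2.1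
  have hcardH : Nat.card H0 = Nat.card H := Nat.card_congr (Subgroup.subgroupOfEquivOfLe hHM).toEquiv
  have hcop : (Nat.card H0).Coprime p := by
    rw [hcardH]
    exact Nat.Coprime.symm (hp.coprime_iff_not_dvd.2 fun h => hps (mem_sigma_of_dvd M hp h))
  have hC : Nat.card ↥(H0 ⊓ Subgroup.centralizer (R0 : Set ↥M)) = Nat.card S := by
    rw [← hmapC, Subgroup.card_map_of_injective M.subtype_injective]
  have hF : Cfsg.fittingOf H0 ⊓ Subgroup.centralizer (R0 : Set ↥M) ≠ ⊥ := by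
    intro hF0
    have hodd : Odd (Nat.card ↥M) := odd_card hG M
    have hc := CfsgLib.PrimeAction.commutator_le_fittingOf hodd H0 R0 hp hR hcop hF0
    set F := (Cfsg.fittingOf H0).map M.subtype with hFdef
    haveI := CfsgLib.PrimeAction.fittingOf_normal H0
    have hFn : M ≤ Subgroup.normalizer (F : Set G) :=
      PReduced.le_normalizer_map_subtype M (Cfsg.fittingOf H0)
    haveI : IsCyclic X := isCyclic_of_prime_card hXc
    have hHF : H ≤ F ⊔ S := by
      intro h hh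
      have hXn : X ≤ Subgroup.normalizer (H : Set G) := hXM.trans (le_normalizer_sigmaCore M)
      obtain ⟨n, hn, c, hc', rfl⟩ := CoprimeAction.exists_commutator_mul_centralizer hXn
        (by rw [hXc, ← hcardH]; exact hcop.symm)
        (Or.inl (by letI : CommGroup X := IsCyclic.commGroup; infer_instance)) hh
      refine mul_mem (Subgroup.mem_sup_left ?_) (Subgroup.mem_sup_right (hfixX ▸ hc'))
      have he : ⁅H, X⁆ = (⁅H0, R0⁆).map M.subtype := by
        rw [Subgroup.map_commutator, hmapH, hR0, Subgroup.map_subgroupOf_eq_of_le hXM]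
      exact Subgroup.map_mono hc (he ▸ hn)
    have hEF : ⁅H, E⁆ ≤ F := by
      rw [Subgroup.commutator_le]
      intro h hh e he
      obtain ⟨f, hf, s, hs, rfl⟩ := CoprimeAction.exists_mul_of_mem_sup
        (((inf_le_left.trans hHM : S ≤ M)).trans hFn) (by rw [sup_comm]; exact hHF hh)
      have hse : f * e = e * f := (Subgroup.mem_centralizer_iff.1 hf.2 e he).symm
      have hc1 : ⁅f * s, e⁆ = f * ⁅s, e⁆ * f⁻¹ := by
        have h2 : f⁻¹ * e * f = e := by rw [mul_assoc, ← hse, inv_mul_cancel_left]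
        calc ⁅f * s, e⁆ = f * (s * e * s⁻¹ * (f⁻¹ * e * f)⁻¹) * f⁻¹ := by
              rw [commutatorElement_def]; group
          _ = f * ⁅s, e⁆ * f⁻¹ := by rw [h2, commutatorElement_def]
      rw [hc1]
      refine (Subgroup.mem_normalizer_iff.1 (hFn (hHM hf.1)) _).1 ?_
      rw [commutatorElement_def, show s * e * s⁻¹ * e⁻¹ = s * (e * s⁻¹ * e⁻¹) by group]
      exact mul_mem hs ((Subgroup.mem_normalizer_iff.1 (hFn (hE.1 he)) _).1 (inv_mem hs))
    rw [commutator_sigma_complement hG hM hE] at hEF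
    haveI := CfsgLib.PrimeAction.fittingOf_nilpotent H0
    haveI hFnil : Group.IsNilpotent ↥F :=
      Group.nilpotent_of_mulEquiv ((Cfsg.fittingOf H0).equivMapOfInjective _ M.subtype_injective)
    exact hn (Group.nilpotent_of_mulEquiv (Subgroup.subgroupOfEquivOfLe hEF))
  obtain ⟨Q, hQn, hQH, hQq, hQ1, hQi, hCQ, hnil⟩ := exists_normal_sylow hR hcop hC hF
  refine ⟨hK, hE1, isCyclic_kappa_hall hG hM hK, hq, Q, hQn, ?_, hQ1, hQq, ?_, ?_, hnil⟩
  · rw [← hmapH]
    exact Subgroup.map_mono hQH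
  · intro hd
    rw [← Subgroup.relIndex_top_right, ← Subgroup.relIndex_mul_relIndex Q H0 ⊤ hQH le_top,
      Subgroup.relIndex_top_right] at hd
    refine (hq.dvd_mul.1 hd).elim hQi fun h => ?_
    refine (sigmaCore_hallOf hG hM).2.2 _ hq (mem_sigma_of_dvd M hq (Subgroup.card_dvd_of_le inf_le_left)) h
  · rw [← hmapC]
    exact Subgroup.map_mono hCQ

/-- With `M = K M_σ`, every prime outside `σ(M)` lies in `κ(M)`. -/
theorem hall_of_le_sup (hG : Cfsg.IsMinSimpleOddOrder G) (hM : IsCoatom M)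
    (hK : Cfsg.IsPiHallOf (Cfsg.kappa M) K M) (hle : M ≤ K ⊔ Cfsg.sigmaCore M) :
    ∀ t : ℕ, t.Prime → t ∣ Nat.card M → t ∉ Cfsg.sigma M → t ∈ Cfsg.kappa M := by
  obtain ⟨E, hKE, hE⟩ := exists_complement_ge hG hM hK.1 fun t ht hd h => (hK.2.1 t ht hd).2.2.1 h
  have hEK : E ≤ K := fun e he => by
    obtain ⟨k, hk, s, hs, hes⟩ := CoprimeAction.exists_mul_of_mem_sup
      (hK.1.trans (le_normalizer_sigmaCore M)) (hle (hE.1 he))
    have hs1 : s ∈ E ⊓ Cfsg.sigmaCore M := by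
      refine Subgroup.mem_inf.2 ⟨?_, hs⟩
      rw [show s = k⁻¹ * e by rw [← hes, inv_mul_cancel_left]]
      exact mul_mem (inv_mem (hKE hk)) he
    rw [hE.2.2.1, Subgroup.mem_bot] at hs1
    rw [← hes, hs1, mul_one]
    exact hk
  intro t ht hd hs
  have hh := (hallOf_of_isComplIn hG hM hE).2.2 t ht ⟨ht, hs⟩
  have hc : Nat.card E * E.relIndex M = Nat.card M := by
    rw [← Subgroup.relIndex_bot_left E, ← Subgroup.relIndex_bot_left M]
    exact Subgroup.relIndex_mul_relIndex _ _ _ bot_le hE.1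
  exact hK.2.1 t ht (((ht.dvd_mul.1 (hc ▸ hd)).resolve_right hh).trans (Subgroup.card_dvd_of_le hEK))

/-- `Q ≤ M_F` when `M_σ` is not nilpotent. -/
theorem sylow_le_fittingHall {q : ℕ} (hq : q.Prime) {Q : Subgroup ↥M} (hQn : Q.Normal)
    (hQq : IsPGroup q Q) (hQi : ¬ q ∣ Q.index) : Q ≤ Cfsg.fittingHall ↥M := by
  haveI := Fact.mk hq
  obtain ⟨n, hn⟩ := hQq.exists_card_eq
  exact le_sSup ⟨hQn, hQq.isNilpotent, hn ▸ (hq.coprime_iff_not_dvd.2 hQi).pow_left n⟩

theorem derived_mod (hG : Cfsg.IsMinSimpleOddOrder G) (hM : IsCoatom M) :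
    Cfsg.fittingHallOf M ≠ ⊥ ∧
      Group.IsNilpotent ↥((commutator ↥M).map (QuotientGroup.mk' (Cfsg.fittingHall ↥M))) := by
  classical
  by_cases hn : Group.IsNilpotent (Cfsg.sigmaCore M)
  · exact ⟨(fittingHallOf_eq_iff hG hM).2 hn ▸ sigmaCore_ne_bot hG hM, derived_mod_nilpotent hG hM hn⟩
  obtain ⟨E, hE⟩ := exists_complement hG hM
  obtain ⟨hK, hE1, hcyc, hq, Q, hQn, hQH, hQ1, hQq, hQi, hCQ, hnil⟩ := core_of_not_nilpotent hG hM hn hE
  have hQF : Q ≤ Cfsg.fittingHall ↥M := sylow_le_fittingHall hq hQn hQq hQi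
  refine ⟨fun h => hQ1 ?_, ?_⟩
  · rw [Cfsg.fittingHallOf, Subgroup.map_eq_bot_iff_of_injective _ M.subtype_injective] at h
    exact le_bot_iff.1 (h ▸ hQF)
  have hEc : ⁅E, E⁆ = ⊥ := by
    rw [Subgroup.commutator_eq_bot_iff_le_centralizer]
    intro a ha
    rw [Subgroup.mem_centralizer_iff]
    intro b hb
    letI : CommGroup ↥E := IsCyclic.commGroup
    exact congrArg Subtype.val (mul_comm (⟨b, hb⟩ : ↥E) ⟨a, ha⟩)
  have hle : commutator ↥M ≤ (Cfsg.sigmaCore M).subgroupOf M := by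
    intro x hx
    have hxM : (x : G) ∈ ⁅M, M⁆ := by
      rw [← Subgroup.map_subtype_commutator]
      exact ⟨x, hx, rfl⟩
    have h2 := commutator_le_sup hE hxM
    rw [hEc, bot_sup_eq] at h2
    exact h2
  set ψ := QuotientGroup.map Q (Cfsg.fittingHall ↥M) (MonoidHom.id ↥M) (by rwa [Subgroup.comap_id]) with hψ
  set A := ((Cfsg.sigmaCore M).subgroupOf M).map (QuotientGroup.mk' Q) with hA
  haveI := hnil
  haveI : Group.IsNilpotent ↥(A.map ψ) :=
    Group.nilpotent_of_surjective (ψ.subgroupMap A) (ψ.subgroupMap_surjective A)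
  have hle2 : (commutator ↥M).map (QuotientGroup.mk' (Cfsg.fittingHall ↥M)) ≤ A.map ψ := by
    rintro _ ⟨x, hx, rfl⟩
    exact ⟨QuotientGroup.mk' Q x, ⟨x, hle hx, rfl⟩, rfl⟩
  exact Group.nilpotent_of_mulEquiv (Subgroup.subgroupOfEquivOfLe hle2)

end CfsgLib.BGFifteen
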