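import Cfsg.Agent.BGFifteen.NotNilpotent
import Cfsg.Agent.Sigma.BetaElement
import Cfsg.Agent.Sigma.SigmaEmbedding

/-!
B&G 15.2: `F(M)` is a TI-subset when `M_σ` is not nilpotent.
-/

set_option autoImplicit false
set_option linter.unusedSectionVars false
set_option linter.style.haveILetI false

namespace CfsgLib.BGFifteen

open CfsgLib.BenderUnique CfsgLib.Uniq CfsgLib.SigmaGroups
open scoped commutatorElement

universe u

variable {G : Type u} [Group G] [Finite G] {M K U : Subgroup G}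

theorem sigma_centralizer_nilpotent {Q : Subgroup ↥M} [Q.Normal]
    (hnil : Group.IsNilpotent ↥(((Cfsg.sigmaCore M).subgroupOf M).map (QuotientGroup.mk' Q))) :
    Group.IsNilpotent ↥(Cfsg.sigmaCore M ⊓ Subgroup.centralizer (Q.map M.subtype : Set G)) := by
  haveI := hnil
  set C := Cfsg.sigmaCore M ⊓ Subgroup.centralizer (Q.map M.subtype : Set G) with hC
  let f : ↥(C.subgroupOf M) →* ↥(((Cfsg.sigmaCore M).subgroupOf M).map (QuotientGroup.mk' Q)) :=
    ((QuotientGroup.mk' Q).subgroupMap ((Cfsg.sigmaCore M).subgroupOf M)).comp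
      (Subgroup.inclusion fun x hx => (Subgroup.mem_subgroupOf.1 hx).1)
  haveI : Group.IsNilpotent ↥(C.subgroupOf M) := Subgroup.isNilpotent_of_ker_le_center f fun c hc' => by
    have h : ((c : ↥M) : G) ∈ Q.map M.subtype :=
      ⟨(c : ↥M), (QuotientGroup.eq_one_iff _).1 (congrArg Subtype.val hc'), rfl⟩
    rw [Subgroup.mem_center_iff]
    intro d
    exact Subtype.ext (Subtype.ext (Subgroup.mem_centralizer_iff.1 (Subgroup.mem_subgroupOf.1 d.2).2 _ h).symm)
  exact Group.nilpotent_of_mulEquiv (Subgroup.subgroupOfEquivOfLe (inf_le_left.trans (Subgroup.map_subtype_le _)))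

/-- The normal Sylow subgroup belongs to a prime of `β(M)` and is a Sylow subgroup of `G` inside `F(M)`. -/
theorem beta_sylow (hG : Cfsg.IsMinSimpleOddOrder G) (hM : IsCoatom M)
    (hn : ¬ Group.IsNilpotent (Cfsg.sigmaCore M)) :
    ∃ q : ℕ, q.Prime ∧ q ∈ Cfsg.beta M ∧ ∃ P : Sylow q G, (P : Subgroup G) ≤ M ∧ (P : Subgroup G) ≠ ⊥ ∧
      (P : Subgroup G) ≤ Cfsg.fittingOf M := by
  obtain ⟨E, hE⟩ := exists_complement hG hM
  obtain ⟨-, -, -, hq, Q, hQn, hQH, hQ1, hQq, hQi, -, hnil⟩ := core_of_not_nilpotent hG hM hn hE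
  haveI := Fact.mk hq
  set q := Nat.card ↥(Cfsg.sigmaCore M ⊓ Subgroup.centralizer (E : Set G)) with hqdef
  have hqσ : q ∈ Cfsg.sigma M := mem_sigma_of_dvd M hq (Subgroup.card_dvd_of_le inf_le_left)
  set Q' := Q.map M.subtype with hQ'
  have hHM : Cfsg.sigmaCore M ≤ M := Subgroup.map_subtype_le _
  have hQM : M ≤ Subgroup.normalizer (Q' : Set G) := PReduced.le_normalizer_map_subtype M Q
  have hQp : IsPGroup q Q' := hQq.map _
  have hle : ∀ T : Subgroup G, IsPGroup q T → T ≤ M → T ≤ Q' := fun T hT hTM =>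
    le_of_prime_relIndex fun t ht hd hdi => by
      have h := hdi.trans (relIndex_dvd_of_normal hQM hTM)
      rw [hQ', Subgroup.relIndex, Subgroup.subgroupOf, Subgroup.comap_map_eq_self_of_injective M.subtype_injective,
        primes_of_pgroup hq hT t ht hd] at h
      exact hQi h
  have hβ : q ∈ Cfsg.beta M := by
    by_contra hb
    refine hn ?_
    set C := Cfsg.sigmaCore M ⊓ Subgroup.centralizer (Q' : Set G) with hC
    have hsup : Cfsg.sigmaCore M ≤ C ⊔ Q' := le_of_prime_subgroups fun t ht T hT hTH => by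
      haveI := Fact.mk ht
      by_cases htq : t = q
      · exact le_sup_of_le_right (hle T (htq ▸ hT) (hTH.trans hHM))
      · refine le_sup_of_le_left (le_inf hTH (le_centralizer_of_not_beta hG hM hqσ hb hQp
          (Subgroup.map_subtype_le _) (hTH.trans (sigmaCore_le_derived hG hM)) ?_ ((hTH.trans hHM).trans hQM)))
        obtain ⟨n, hn'⟩ := hT.exists_card_eq
        rw [hn']
        exact ((Nat.coprime_primes ht hq).2 htq).pow_left n
    have hQC : Q' ≤ Subgroup.normalizer (C : Set G) := by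
      rw [Subgroup.le_normalizer_iff]
      refine fun m hm c hc => ⟨(Subgroup.mem_normalizer_iff.1
        (le_normalizer_sigmaCore M (Subgroup.map_subtype_le _ hm)) c).1 hc.1, ?_⟩
      rw [(show Commute m c from Subgroup.mem_centralizer_iff.1 hc.2 m hm).eq, mul_inv_cancel_right]
      exact hc.2
    haveI := nilpotent_sup (sigma_centralizer_nilpotent (M := M) hnil) hQp.isNilpotent
      (sup_le Subgroup.le_normalizer hQC) (sup_le ((inf_le_left.trans hHM).trans hQM) Subgroup.le_normalizer)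
    exact Group.nilpotent_of_mulEquiv (Subgroup.subgroupOfEquivOfLe hsup)
  obtain ⟨P, hQP, hPM, -⟩ := exists_sylow hqσ hQp (Subgroup.map_subtype_le _)
  refine ⟨q, hq, hβ, P, hPM, fun h => hQ1 ?_, (hle P P.isPGroup' hPM).trans
    (le_fittingOf (Subgroup.map_subtype_le _) hQM hQp.isNilpotent)⟩
  exact (Subgroup.map_eq_bot_iff_of_injective _ M.subtype_injective).1 (le_bot_iff.1 (h ▸ hQP))

theorem fitting_ti (hG : Cfsg.IsMinSimpleOddOrder G) (hM : IsCoatom M)
    (hn : ¬ Group.IsNilpotent (Cfsg.sigmaCore M)) : Cfsg.IsTISubset (Cfsg.fittingOf M : Set G) := by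
  obtain ⟨q, hq, hβ, P, hPM, hP1, hPF⟩ := beta_sylow hG hM hn
  haveI := Fact.mk hq
  have hFM : Cfsg.fittingOf M ≤ M := Subgroup.map_subtype_le _
  haveI : Group.IsNilpotent ↥(Cfsg.fittingOf M) := by
    haveI := CfsgLib.Components.fittingSubgroup_isNilpotent (G := ↥M)
    exact Group.nilpotent_of_mulEquiv (Subgroup.equivMapOfInjective (Cfsg.fittingSubgroup ↥M) _ M.subtype_injective)
  intro g hg x hx hgx
  haveI : (Cfsg.fittingSubgroup ↥M).Normal := CfsgLib.Components.fittingSubgroup_normal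
  by_contra hx1
  have hgM : g ∉ M := fun h => hg (PReduced.le_normalizer_map_subtype M (Cfsg.fittingSubgroup ↥M) h)
  obtain ⟨t, ht, hd⟩ := Nat.exists_prime_and_dvd fun e => hx1 (orderOf_eq_one_iff.1 e)
  haveI := Fact.mk ht
  obtain ⟨y, hy, hyo⟩ := exists_elem_prime (p := t) (H := Subgroup.zpowers x) (by rwa [Nat.card_zpowers])
  have hyF : y ∈ Cfsg.fittingOf M := Subgroup.zpowers_le.2 hx hy
  have hgy : g * y * g⁻¹ ∈ Cfsg.fittingOf M := by
    obtain ⟨i, rfl⟩ := Subgroup.mem_zpowers_iff.1 hy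
    rw [← conj_zpow]
    exact zpow_mem hgx i
  by_cases htq : t = q
  · subst htq
    exact hgM (mem_of_conj_mem_of_elem hG hM (mem_sigma_of_alpha hG hM hβ.1) hyo (hFM hyF)
      (unique_centralizer_of_beta hG hM hβ (hFM hyF) hyo).2 (hFM hgy))
  obtain ⟨z, hzP, hzo⟩ := exists_elem_prime (p := q) (dvd_card_of_ne_bot P.isPGroup' hP1)
  have hcomm : ∀ b ∈ Cfsg.fittingOf M, orderOf b = t → ∀ a ∈ (P : Subgroup G), a * b = b * a := by
    intro b hb hbo a ha
    obtain ⟨i, hi⟩ := IsPGroup.iff_orderOf.1 P.isPGroup' ⟨a, ha⟩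
    rw [Subgroup.orderOf_mk] at hi
    exact congrArg Subtype.val (Hall.DPi.commute_of_coprime_orders (H := ↥(Cfsg.fittingOf M)) (p := q) (i := i)
      (a := ⟨a, hPF ha⟩) (b := ⟨b, hb⟩) (by rw [Subgroup.orderOf_mk, hi])
      (by rw [Subgroup.orderOf_mk, hbo]; exact (Nat.coprime_primes ht hq).2 htq))
  set w := g * y * g⁻¹ with hw
  have hwo : orderOf w = t := ((MulAut.conj g).orderOf_eq y).trans hyo
  have hCw : Subgroup.centralizer ({w} : Set G) ≤ M := by
    obtain ⟨L₀, -, huniq⟩ := (sigma_line_unique hG hM (mem_sigma_of_alpha hG hM hβ.1) hzo (hPM hzP) (Or.inl hβ)).2.2 P hPM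
    have hne : Subgroup.centralizer ({w} : Set G) ≠ ⊤ :=
      centralizer_singleton_ne_top hG fun e => ht.one_lt.ne (by rw [← hwo, e, orderOf_one])
    obtain ⟨L, hL, hCL⟩ := (eq_top_or_exists_le_coatom (Subgroup.centralizer ({w} : Set G))).resolve_left hne
    have hPC : (P : Subgroup G) ≤ Subgroup.centralizer ({w} : Set G) := fun a ha =>
      Subgroup.mem_centralizer_singleton_iff.2 (hcomm w hgy hwo a ha)
    rw [huniq M ⟨hM, hPM⟩, ← huniq L ⟨hL, hPC.trans hCL⟩]
    exact hCL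
  refine hgM (mem_of_conj_mem_of_elem hG hM (mem_sigma_of_alpha hG hM hβ.1) hzo (hPM hzP)
    (unique_centralizer_of_beta hG hM hβ (hPM hzP) hzo).2 (hCw (Subgroup.mem_centralizer_singleton_iff.2 ?_)))
  have h := hcomm y hyF hyo z hzP
  calc g * z * g⁻¹ * w = g * (z * y) * g⁻¹ := by rw [hw]; group
    _ = g * (y * z) * g⁻¹ := by rw [h]
    _ = w * (g * z * g⁻¹) := by rw [hw]; group

theorem fittingHall_ne_data (hG : Cfsg.IsMinSimpleOddOrder G) (hM : IsCoatom M)
    (hKU : Cfsg.IsSigmaDecomposition M K U) (hne : Cfsg.fittingHallOf M ≠ Cfsg.sigmaCore M) :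
    U = ⊥ ∧ Cfsg.IsTISubset (Cfsg.fittingOf M : Set G) ∧ (Nat.card K).Prime := by
  have hn : ¬ Group.IsNilpotent (Cfsg.sigmaCore M) := fun h => hne ((fittingHallOf_eq_iff hG hM).2 h)
  have hU : U = ⊥ := by
    obtain ⟨-, hU⟩ := decomp_complement_card hG hM hKU
    by_contra hU1
    obtain ⟨t, ht, hd⟩ := Nat.exists_prime_and_dvd fun e => hU1 (Subgroup.card_eq_one.1 e)
    obtain ⟨-, hk, hs⟩ := hU.2.1 t ht hd
    exact hk (kappa_of_not_nilpotent hG hM hn ht (hd.trans (Subgroup.card_dvd_of_le hU.1)) hs)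
  refine ⟨hU, fitting_ti hG hM hn, (not_nilpotent_data hG hM hn ?_).1⟩
  exact isComplIn_kappa hG hM hKU.hall fun t ht hd hs => kappa_of_not_nilpotent hG hM hn ht hd hs

end CfsgLib.BGFifteen
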