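import Cfsg.Agent.BGFifteen.MaximalList
import Cfsg.Agent.Sigma.TypeOneTwo
import Cfsg.Agent.BGSets.NeighbourPrimes
import Cfsg.Agent.S1374
import Cfsg.Agent.FrobOrder.Basic
import Cfsg.Agent.Hall.DPiDirect

/-!
B&G 16, theorem II: tame embedding of the sets `A(M)` and `A₀(M)`.
-/

set_option autoImplicit false
set_option linter.unusedSectionVars false
set_option linter.style.haveILetI false

namespace CfsgLib.BGFifteen

open CfsgLib.BenderUnique CfsgLib.Uniq CfsgLib.SigmaGroups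
open scoped commutatorElement

universe u

variable {G : Type u} [Group G] [Finite G] {M K U W₁ V W₂ : Subgroup G}

theorem isComplIn_swap {A B C : Subgroup G} (h : Cfsg.IsComplIn A B C) : Cfsg.IsComplIn B A C := by
  refine ⟨h.2.1, h.1, by rw [inf_comm]; exact h.2.2.1, fun m hm => ?_⟩
  obtain ⟨a, ha, b, hb, he⟩ := h.2.2.2 m⁻¹ (inv_mem hm)
  exact ⟨b⁻¹, inv_mem hb, a⁻¹, inv_mem ha, by rw [← mul_inv_rev, ← he, inv_inv]⟩

/-- With `κ = ∅` the factor `U` is not trivial. -/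
theorem ne_bot_of_kappa_bot (hG : Cfsg.IsMinSimpleOddOrder G) (hM : IsCoatom M)
    (hKU : Cfsg.IsSigmaDecomposition M K U) (hK : K = ⊥) : U ≠ ⊥ := fun hU =>
  (derived_lt hG hM).not_ge fun m hm => by
    obtain ⟨a, ha, b, hb, rfl⟩ := hKU.compl.2.2.2 m hm
    rw [hU, Subgroup.mem_bot] at ha
    rw [hK, bot_sup_eq] at hb
    rw [ha, one_mul]
    exact sigmaCore_le_derived hG hM hb

theorem typeCore_eq_sigmaCore (hG : Cfsg.IsMinSimpleOddOrder G) (hM : IsCoatom M)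
    (hKU : Cfsg.IsSigmaDecomposition M K U) : Cfsg.typeCore M = Cfsg.sigmaCore M := by
  classical
  by_cases hU : U = ⊥
  · have hK : K ≠ ⊥ := fun h => ne_bot_of_kappa_bot hG hM hKU h hU
    have hder := decomp_derived hG hM hKU hK
    rw [hU, bot_sup_eq] at hder
    by_cases h : Cfsg.IsOfTypeIII M ∨ Cfsg.IsOfTypeIV M
    · rw [Cfsg.typeCore, if_pos h, hder]
    · rw [Cfsg.typeCore, if_neg h]
      by_contra hne
      exact h ((type_three_four_iff hG hM hKU).2 ⟨hK, hU, hne⟩)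
  · exact typeCore_of_ne hG hM hKU hU

theorem typeA1_eq (hG : Cfsg.IsMinSimpleOddOrder G) (hM : IsCoatom M)
    (hKU : Cfsg.IsSigmaDecomposition M K U) : Cfsg.typeA1 M = (Cfsg.sigmaCore M : Set G) \ {1} := by
  rw [Cfsg.typeA1, typeCore_eq_sigmaCore hG hM hKU]

/-- In every type `A(M)` consists of the non-identity elements of `M̂_σ ∩ U M_σ`. -/
theorem typeA_eq (hG : Cfsg.IsMinSimpleOddOrder G) (hM : IsCoatom M) (hKU : Cfsg.IsSigmaDecomposition M K U)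
    (hI : K = ⊥ → U ≠ ⊥ → Cfsg.IsOfTypeI M) : Cfsg.typeA M = Cfsg.sigmaA M U \ {1} := by
  classical
  have hSM : Cfsg.sigmaCore M ≤ M := Subgroup.map_subtype_le _
  by_cases hK : K = ⊥
  · have hU := ne_bot_of_kappa_bot hG hM hKU hK
    have hsup : U ⊔ Cfsg.sigmaCore M = M := le_antisymm (sup_le hKU.compl.1 hSM) fun m hm => by
      obtain ⟨u, hu, w, hw, rfl⟩ := hKU.compl.2.2.2 m hm
      rw [hK, bot_sup_eq] at hw
      exact Subgroup.mul_mem_sup hu hw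
    rw [Cfsg.typeA, if_pos (hI hK hU), fittingHallOf_of_ne hG hM hKU hU, Cfsg.sigmaA, hsup]
    ext a
    constructor
    · rintro ⟨haM, ha1, h⟩
      exact ⟨⟨⟨haM, h⟩, haM⟩, ha1⟩
    · rintro ⟨⟨⟨haM, h⟩, -⟩, ha1⟩
      exact ⟨haM, ha1, h⟩
  · have hnI : ¬ Cfsg.IsOfTypeI M := fun h => hK (type_one_data hG hM hKU h).1
    rw [Cfsg.typeA, if_neg hnI, typeCore_eq_sigmaCore hG hM hKU, decomp_derived hG hM hKU hK, Cfsg.sigmaA]
    ext a
    constructor
    · rintro ⟨haW, ha1, h⟩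
      exact ⟨⟨⟨sup_le hKU.compl.1 hSM haW, h⟩, haW⟩, ha1⟩
    · rintro ⟨⟨⟨-, h⟩, haW⟩, ha1⟩
      exact ⟨haW, ha1, h⟩

/-- Any data of type P is conjugate to the data of a standard factorisation. -/
theorem typeP_conj (hG : Cfsg.IsMinSimpleOddOrder G) (hM : IsCoatom M)
    (hKU : Cfsg.IsSigmaDecomposition M K U) (hK1 : K ≠ ⊥) (hP : Cfsg.IsTypePWith M W₁ V W₂) :
    ∃ a ∈ M, W₁.map (MulAut.conj a).toMonoidHom = K ∧
      W₂.map (MulAut.conj a).toMonoidHom = Cfsg.sigmaCore M ⊓ Subgroup.centralizer (K : Set G) := by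
  haveI := isSolvable_of_ne_top hG hM.1
  have hc := derived_compl hG hM hKU hK1
  have hcard : Nat.card W₁ = Nat.card K := by
    have h1 := CfsgLib.TypeP.card_eq_of_isComplIn hP.W₁_compl
    have h2 := CfsgLib.TypeP.card_eq_of_isComplIn hc
    rw [h1] at h2
    exact Nat.eq_of_mul_eq_mul_left Nat.card_pos h2
  obtain ⟨a, ha, hle⟩ := exists_conj_le_hall hKU.hall hP.W₁_compl.2.1
    fun t ht hd => hKU.hall.2.1 t ht (hcard ▸ hd)
  have he : W₁.map (MulAut.conj a).toMonoidHom = K :=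
    Subgroup.eq_of_le_of_card_ge hle (by rw [card_map_conj, hcard])
  refine ⟨a, ha, he, ?_⟩
  obtain ⟨w, hw, hw1⟩ := (Subgroup.bot_or_exists_ne_one _).resolve_left hP.W₁_ne
  set k := a * w * a⁻¹ with hk
  have hkK : k ∈ K := he ▸ ⟨w, hw, rfl⟩
  have hk1 : k ≠ 1 := fun h => hw1 (conj_eq_one_iff.1 h)
  have hMn : M ≤ Subgroup.normalizer ((⁅M, M⁆ : Subgroup G) : Set G) := CoprimeAction.self_le_normalizer_commutator
  rw [← hP.W₂_centralizer w hw hw1]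
  refine le_antisymm ?_ fun s hs => ⟨a⁻¹ * s * a, ⟨?_, ?_⟩, show a * (a⁻¹ * s * a) * a⁻¹ = s by group⟩
  · rintro _ ⟨c, hc', rfl⟩
    show a * c * a⁻¹ ∈ _
    set d := a * c * a⁻¹ with hd
    have hdD : d ∈ ⁅M, M⁆ := (Subgroup.mem_normalizer_iff.1 (hMn ha) c).1 hc'.1
    have hdk : d * k * d⁻¹ = k := by
      have h := Subgroup.mem_centralizer_singleton_iff.1 hc'.2
      rw [hd, hk, show a * c * a⁻¹ * (a * w * a⁻¹) * (a * c * a⁻¹)⁻¹ = a * (c * w) * c⁻¹ * a⁻¹ by group, h]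
      group
    obtain ⟨u, hu, v, hv, huv, -, -, -⟩ := kappaZ_decomp hKU.hall
      (mem_of_conj_kappa hG hM hKU.hall hK1 (Subgroup.commutator_le_self M hdD) hkK hk1 (by rw [hdk]; exact hkK))
    have hu1 : u = 1 := by
      have h : u ∈ ⁅M, M⁆ ⊓ K := ⟨(Subgroup.mul_mem_cancel_right _
        (sigmaCore_le_derived hG hM hv.1)).1 (by rw [huv]; exact hdD), hu⟩
      rwa [hc.2.2.1, Subgroup.mem_bot] at h
    rw [← huv, hu1, one_mul]
    exact hv
  · have h := (Subgroup.mem_normalizer_iff.1 (hMn (M.inv_mem ha)) s).1 (sigmaCore_le_derived hG hM hs.1)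
    rwa [inv_inv] at h
  · have h := Subgroup.mem_centralizer_iff.1 hs.2 k hkK
    refine Subgroup.mem_centralizer_singleton_iff.2 ?_
    calc a⁻¹ * s * a * w = a⁻¹ * (s * k) * a := by rw [hk]; group
      _ = a⁻¹ * (k * s) * a := by rw [h]
      _ = _ := by rw [hk]; group

/-- An element of `A₀(M)` outside `A(M)` is conjugate in `M` to one of `Z` outside both factors. -/
theorem typeA0_cases (hG : Cfsg.IsMinSimpleOddOrder G) (hM : IsCoatom M) (hKU : Cfsg.IsSigmaDecomposition M K U)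
    (hI : K = ⊥ → U ≠ ⊥ → Cfsg.IsOfTypeI M) {x : G} (hx : x ∈ Cfsg.typeA0 M) :
    x ∈ Cfsg.sigmaA M U \ {1} ∨ K ≠ ⊥ ∧ ∃ m ∈ M, ∃ z : G,
      z ∈ K ⊔ (Cfsg.sigmaCore M ⊓ Subgroup.centralizer (K : Set G)) ∧ z ∉ K ∧
      z ∉ Cfsg.sigmaCore M ⊓ Subgroup.centralizer (K : Set G) ∧ x = m * z * m⁻¹ := by
  rcases hx with hx | ⟨hnI, W₁, V, W₂, hP, m, hm, w, hw, hw1, hw2, rfl⟩
  · exact Or.inl (typeA_eq hG hM hKU hI ▸ hx)
  have hK1 : K ≠ ⊥ := fun h => hnI (hI h (ne_bot_of_kappa_bot hG hM hKU h))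
  obtain ⟨a, ha, he1, he2⟩ := typeP_conj hG hM hKU hK1 hP
  refine Or.inr ⟨hK1, m * a⁻¹, mul_mem hm (inv_mem ha), a * w * a⁻¹, ?_, ?_, ?_, by group⟩
  · rw [← he2, ← he1, ← Subgroup.map_sup]
    exact ⟨w, hw, rfl⟩
  · rw [← he1]
    rintro ⟨v, hv, hve⟩
    exact hw1 ((MulAut.conj a).injective (hve : _) ▸ hv)
  · rw [← he2]
    rintro ⟨v, hv, hve⟩
    exact hw2 ((MulAut.conj a).injective (hve : _) ▸ hv)

theorem exists_kappa_dvd (hK : Cfsg.IsPiHallOf (Cfsg.kappa M) K M) {m z : G}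
    (hz : z ∈ K ⊔ (Cfsg.sigmaCore M ⊓ Subgroup.centralizer (K : Set G)))
    (hzS : z ∉ Cfsg.sigmaCore M ⊓ Subgroup.centralizer (K : Set G)) :
    ∃ p : ℕ, p.Prime ∧ p ∣ orderOf (m * z * m⁻¹) ∧ p ∈ Cfsg.kappa M := by
  obtain ⟨u, hu, v, hv, he, -, huz, -⟩ := kappaZ_decomp hK hz
  obtain ⟨p, hp, hd⟩ := Nat.exists_prime_and_dvd (n := orderOf u) fun h => hzS (by
    rw [← he, orderOf_eq_one_iff.1 h, one_mul]; exact hv)
  refine ⟨p, hp, ?_, hK.2.1 p hp (hd.trans (Subgroup.orderOf_dvd_natCard K hu))⟩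
  rw [BGSets.orderOf_conj]
  exact hd.trans (orderOf_dvd_of_mem_zpowers huz)

theorem kappaZ_centralizer_le (hG : Cfsg.IsMinSimpleOddOrder G) (hM : IsCoatom M)
    (hK : Cfsg.IsPiHallOf (Cfsg.kappa M) K M) (hK1 : K ≠ ⊥) {m z : G} (hm : m ∈ M)
    (hz : z ∈ K ⊔ (Cfsg.sigmaCore M ⊓ Subgroup.centralizer (K : Set G))) (hzK : z ∉ K)
    (hzS : z ∉ Cfsg.sigmaCore M ⊓ Subgroup.centralizer (K : Set G)) :
    Subgroup.centralizer ({m * z * m⁻¹} : Set G) ≤ M := by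
  intro c hc
  have hcz : m⁻¹ * c * m * z * (m⁻¹ * c * m)⁻¹ = z := by
    have h := Subgroup.mem_centralizer_singleton_iff.1 hc
    calc m⁻¹ * c * m * z * (m⁻¹ * c * m)⁻¹ = m⁻¹ * (c * (m * z * m⁻¹)) * c⁻¹ * m := by group
      _ = m⁻¹ * (m * z * m⁻¹ * c) * c⁻¹ * m := by rw [h]
      _ = z := by group
  have hd := (sup_le hK.1 (inf_le_left.trans (Subgroup.map_subtype_le _)) :
    K ⊔ (Cfsg.sigmaCore M ⊓ Subgroup.centralizer (K : Set G)) ≤ M)
    (kappaZ_mem_of_conj hG hM hK hK1 hz hzK hzS (g := m⁻¹ * c * m) (by rw [hcz]; exact hz))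
  simpa [mul_assoc] using mul_mem (mul_mem hm hd) (inv_mem hm)

/-- The elements of `A(M)` fuse only inside `M`. -/
theorem sigmaA_fusion (hG : Cfsg.IsMinSimpleOddOrder G) (hM : IsCoatom M)
    (hKU : Cfsg.IsSigmaDecomposition M K U) {x g : G} (hx : x ∈ Cfsg.sigmaA M U) (hx1 : x ≠ 1)
    (hgx : g * x * g⁻¹ ∈ Cfsg.sigmaA M U) : ∃ m ∈ M, m * x * m⁻¹ = g * x * g⁻¹ := by
  by_cases hxS : x ∈ Cfsg.sigmaCore M
  · obtain ⟨-, R, -, hR, hu⟩ := Cfsg.Agent.S1374.result hG M hM x hxS hx1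
    obtain ⟨r, ⟨hr, he⟩, -⟩ := hu g⁻¹ ⟨g * x * g⁻¹, hgx.1.1, by
      show g⁻¹ * (g * x * g⁻¹) * g⁻¹⁻¹ = x
      group⟩
    have hgr : g * r ∈ M := by
      rw [← normalizer_coatom hG hM (coatom_ne_bot hG hM)]
      refine Subgroup.mem_normalizer_iff_map_conj_eq.2 ?_
      show M.map (MulAut.conj (g * r)).toMonoidHom = M
      rw [← map_conj_map, he, map_conj_map, mul_inv_cancel, map_conj_one]
    have hrx : r * x = x * r := Subgroup.mem_centralizer_singleton_iff.1 (hR.2.1 hr)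
    refine ⟨g * r, hgr, ?_⟩
    calc g * r * x * (g * r)⁻¹ = g * (r * x) * r⁻¹ * g⁻¹ := by group
      _ = g * (x * r) * r⁻¹ * g⁻¹ := by rw [hrx]
      _ = _ := by group
  refine ⟨g, ?_, rfl⟩
  obtain ⟨p, hp, hd, hps⟩ := BGSets.exists_prime_not_sigma hG hM hx.1.1 hxS
  have hle := (BGSets.unique_power hG hM hKU hx hp hd hps).1
  have huniq := (BGSets.unique_power hG hM hKU hgx hp (by rw [BGSets.orderOf_conj]; exact hd) hps).2
  rw [BGSets.orderOf_conj, conj_pow] at huniq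
  set i := orderOf x / p with hi
  rw [← normalizer_coatom hG hM (coatom_ne_bot hG hM)]
  refine Subgroup.mem_normalizer_iff_map_conj_eq.2 (huniq _ (isCoatom_map _ hM) ?_)
  intro c hc
  have hc' : g⁻¹ * c * g ∈ Subgroup.centralizer ({x ^ i} : Set G) := by
    rw [Subgroup.mem_centralizer_singleton_iff]
    have h := Subgroup.mem_centralizer_singleton_iff.1 hc
    calc g⁻¹ * c * g * x ^ i = g⁻¹ * (c * (g * x ^ i * g⁻¹)) * g := by group
      _ = g⁻¹ * (g * x ^ i * g⁻¹ * c) * g := by rw [h]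
      _ = _ := by group
  exact ⟨g⁻¹ * c * g, hle hc', show g * (g⁻¹ * c * g) * g⁻¹ = c by group⟩

/-- An element of `A(M)` whose centralizer leaves `M` lies in `M_σ`. -/
theorem mem_sigmaCore_of_not_le (hG : Cfsg.IsMinSimpleOddOrder G) (hM : IsCoatom M)
    (hKU : Cfsg.IsSigmaDecomposition M K U) {x : G} (hx : x ∈ Cfsg.sigmaA M U)
    (hxM : ¬ Subgroup.centralizer ({x} : Set G) ≤ M) : x ∈ Cfsg.sigmaCore M := by
  by_contra hxS
  obtain ⟨p, hp, hd, hps⟩ := BGSets.exists_prime_not_sigma hG hM hx.1.1 hxS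
  refine hxM fun c hc => (BGSets.unique_power hG hM hKU hx hp hd hps).1 ?_
  have h : Commute c x := Subgroup.mem_centralizer_singleton_iff.1 hc
  exact Subgroup.mem_centralizer_singleton_iff.2 (h.pow_right _).eq

/-- Every element of `A₀(M)` has its centralizer in `M` or lies in `M_σ`. -/
theorem typeA0_mem_sigmaCore (hG : Cfsg.IsMinSimpleOddOrder G) (hM : IsCoatom M)
    (hKU : Cfsg.IsSigmaDecomposition M K U) (hI : K = ⊥ → U ≠ ⊥ → Cfsg.IsOfTypeI M) {x : G}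
    (hx : x ∈ Cfsg.typeA0 M) (hxM : ¬ Subgroup.centralizer ({x} : Set G) ≤ M) :
    x ∈ Cfsg.sigmaCore M ∧ x ≠ 1 := by
  rcases typeA0_cases hG hM hKU hI hx with h | ⟨hK1, m, hm, z, hz, hzK, hzS, rfl⟩
  · exact ⟨mem_sigmaCore_of_not_le hG hM hKU h.1 hxM, h.2⟩
  · exact absurd (kappaZ_centralizer_le hG hM hKU.hall hK1 hm hz hzK hzS) hxM

theorem typeA0_fusion (hG : Cfsg.IsMinSimpleOddOrder G) (hM : IsCoatom M)
    (hKU : Cfsg.IsSigmaDecomposition M K U) (hI : K = ⊥ → U ≠ ⊥ → Cfsg.IsOfTypeI M) {x g : G}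
    (hx : x ∈ Cfsg.typeA0 M) (hgx : g * x * g⁻¹ ∈ Cfsg.typeA0 M) :
    ∃ m ∈ M, m * x * m⁻¹ = g * x * g⁻¹ := by
  rcases typeA0_cases hG hM hKU hI hx with h | ⟨hK1, m, hm, z, hz, hzK, hzS, rfl⟩ <;>
    rcases typeA0_cases hG hM hKU hI hgx with h' | ⟨hK1', n, hn, z', hz', hzK', hzS', he⟩
  · exact sigmaA_fusion hG hM hKU h.1 h.2 h'.1
  · obtain ⟨p, hp, hd, hpk⟩ := exists_kappa_dvd hKU.hall (m := n) hz' hzS'
    rw [← he, BGSets.orderOf_conj] at hd
    exact absurd hpk ((BGSets.mem_UMs_iff hG hM hKU h.1.1.1).1 h.1.2 p hp hd)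
  · obtain ⟨p, hp, hd, hpk⟩ := exists_kappa_dvd hKU.hall (m := m) hz hzS
    rw [← BGSets.orderOf_conj g] at hd
    exact absurd hpk ((BGSets.mem_UMs_iff hG hM hKU h'.1.1.1).1 h'.1.2 p hp hd)
  · refine ⟨g, ?_, rfl⟩
    have hg := (sup_le hKU.hall.1 (inf_le_left.trans (Subgroup.map_subtype_le _)) :
      K ⊔ (Cfsg.sigmaCore M ⊓ Subgroup.centralizer (K : Set G)) ≤ M)
      (kappaZ_mem_of_conj hG hM hKU.hall hK1 hz hzK hzS (g := n⁻¹ * g * m) (by
        rw [show n⁻¹ * g * m * z * (n⁻¹ * g * m)⁻¹ = n⁻¹ * (g * (m * z * m⁻¹) * g⁻¹) * n by group, he,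
          show n⁻¹ * (n * z' * n⁻¹) * n = z' by group]
        exact hz'))
    simpa [mul_assoc] using mul_mem (mul_mem hn hg) (inv_mem hm)

/-- The kernel of a Frobenius group is its largest nilpotent normal Hall subgroup. -/
theorem frobenius_kernel_eq_fittingHall {X : Type*} [Group X] [Finite X] {E : Subgroup X}
    (hE : Cfsg.IsFrobeniusComplement E) :
    Cfsg.frobeniusKernel E = ((Cfsg.fittingHall X : Subgroup X) : Set X) := by
  have hR : Frob.kernel hE ≤ Cfsg.fittingHall X :=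
    le_sSup (show Frob.kernel hE ∈ {N : Subgroup X | N.Normal ∧ Group.IsNilpotent N ∧
        (Nat.card N).Coprime N.index} from
      ⟨Frob.kernel_normal hE, FrobOrder.kernel_isNilpotent hE, by
        rw [Frob.index_kernel]; exact Frob.coprime_card_kernel hE⟩)
  rw [← Frob.coe_kernel hE]
  refine congrArg _ (le_antisymm hR fun x hx => ?_)
  by_contra hxR
  obtain ⟨-, g, hg⟩ := Frob.not_mem_kernel_iff.1 fun h => hxR ((Frob.mem_kernel hE).2 h)
  obtain ⟨r, hr, hrd⟩ := Nat.exists_prime_and_dvd (n := Nat.card ↥(Frob.kernel hE))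
    fun h => Frob.kernel_ne_bot hE (Subgroup.card_eq_one.1 h)
  haveI := Fact.mk hr
  obtain ⟨k, hk⟩ := exists_prime_orderOf_dvd_card' r hrd
  haveI := fittingHall_nilpotent X
  have hxo : orderOf x ∣ Nat.card E := by
    have h1 : orderOf (g⁻¹ * x * g) = orderOf x := by
      simpa using orderOf_injective (MulAut.conj g⁻¹).toMonoidHom (MulAut.conj g⁻¹).injective x
    rw [← h1]
    exact Subgroup.orderOf_dvd_natCard E hg
  have hcomm : (⟨(k : X), hR k.2⟩ : ↥(Cfsg.fittingHall X)) * ⟨x, hx⟩ = ⟨x, hx⟩ * ⟨(k : X), hR k.2⟩ := by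
    refine Hall.DPi.commute_of_coprime_orders (p := r) (i := 1) ?_ ?_
    · rw [Subgroup.orderOf_mk, Subgroup.orderOf_coe, hk, pow_one]
    · rw [Subgroup.orderOf_mk]
      exact ((Frob.coprime_card_kernel hE).symm.coprime_dvd_left hxo).coprime_dvd_right hrd
  exact hxR (Frob.centralizer_le_kernel hE k.2 (fun h => hr.ne_one (by
    rw [← hk, ← Subgroup.orderOf_coe, h, orderOf_one]))
    (Subgroup.mem_centralizer_singleton_iff.2 (congrArg Subtype.val hcomm).symm))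

/-- The coprimality statement: a prime of `σ(N)` dividing some `|C_M(y)|` cannot occur. -/
theorem neighbour_coprime (hG : Cfsg.IsMinSimpleOddOrder G) (hM : IsCoatom M)
    (hKU : Cfsg.IsSigmaDecomposition M K U) (hI : K = ⊥ → U ≠ ⊥ → Cfsg.IsOfTypeI M) {x : G} {N : Subgroup G}
    (hx : x ∈ Cfsg.sigmaCore M) (hx1 : x ≠ 1) (h : BGSets.IsNeighbour M N x) {y : G} (hy : y ∈ Cfsg.typeA0 M) :
    (Nat.card (Cfsg.fittingHallOf N)).Coprime (Nat.card ↥(M ⊓ Subgroup.centralizer ({y} : Set G))) := by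
  refine Nat.coprime_of_dvd fun q hq h1 h2 => ?_
  haveI := Fact.mk hq
  have hqN : q ∈ Cfsg.sigma N :=
    mem_sigma_of_dvd N hq (h1.trans (Subgroup.card_dvd_of_le (fittingHallOf_le_sigmaCore hG h.coatom)))
  have hqM : q ∣ Nat.card M := h2.trans (Subgroup.card_dvd_of_le inf_le_left)
  have hκ := BGSets.kappa_eq_empty_of_neighbour hG hM hx hx1 h hqN hqM
  have hτ := BGSets.tau2_eq_empty_of_neighbour hG hM hx hx1 h hqN hqM
  have hqs : q ∉ Cfsg.sigma M := fun hs => sigma_disjoint hG hM h.coatom h.not_conj hs hqN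
  have hfree : ∀ (p : ℕ) (a : G), p.Prime → p ∉ Cfsg.sigma M → a ∈ M → orderOf a = p →
      Cfsg.sigmaCore M ⊓ Subgroup.centralizer ({a} : Set G) = ⊥ := by
    intro p a hp hps haM hao
    haveI := Fact.mk hp
    rcases mem_tau13_or_tau2 hG hM (hao ▸ Subgroup.orderOf_dvd_natCard M haM) hps with ⟨-, hr⟩ | h'
    · exact free_of_not_kappa hG hps (by rw [hκ]; exact fun h => h) hr haM hao
    · rw [hτ] at h'
      exact absurd h' fun h => h
  rcases typeA0_cases hG hM hKU hI hy with hyA | ⟨hK1, -⟩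
  · obtain ⟨⟨⟨hyM, v, hv, hv1, hyv⟩, -⟩, hy1⟩ := hyA
    by_cases hyS : y ∈ Cfsg.sigmaCore M
    · obtain ⟨z, hz, hzo⟩ := exists_elem_prime (p := q) h2
      have h3 : y ∈ Cfsg.sigmaCore M ⊓ Subgroup.centralizer ({z} : Set G) :=
        ⟨hyS, Subgroup.mem_centralizer_singleton_iff.2 (Subgroup.mem_centralizer_singleton_iff.1 hz.2).symm⟩
      rw [hfree q z hq hqs hz.1 hzo, Subgroup.mem_bot] at h3
      exact hy1 h3
    · obtain ⟨p, hp, hd, hps⟩ := BGSets.exists_prime_not_sigma hG hM hyM hyS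
      haveI := Fact.mk hp
      obtain ⟨a, ha, hao⟩ := exists_elem_prime (p := p) (H := Subgroup.zpowers y) (by rwa [Nat.card_zpowers])
      have h3 : v ∈ Cfsg.sigmaCore M ⊓ Subgroup.centralizer ({a} : Set G) := by
        obtain ⟨i, rfl⟩ := Subgroup.mem_zpowers_iff.1 ha
        exact ⟨hv, Subgroup.mem_centralizer_singleton_iff.2
          ((show Commute y v from hyv).zpow_left i).symm.eq⟩
      rw [hfree p a hp hps (Subgroup.zpowers_le.2 hyM ha) hao, Subgroup.mem_bot] at h3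
      exact hv1 h3
  · exact hK1 ((BGSets.K_eq_bot_iff_kappa hKU).2 hκ)

/-- B&G 16, theorem II, given that `κ = ∅` gives type I and a Frobenius complement of M for neighbours with `κ ≠ ∅`. -/
theorem tame_embedding (hG : Cfsg.IsMinSimpleOddOrder G)
    (hI : ∀ M K U : Subgroup G, IsCoatom M → Cfsg.IsSigmaDecomposition M K U → K = ⊥ → U ≠ ⊥ → Cfsg.IsOfTypeI M)
    (hM : IsCoatom M)
    (hF : ∀ (x : G) (N : Subgroup G), x ∈ Cfsg.sigmaCore M → x ≠ 1 → ¬ Subgroup.centralizer ({x} : Set G) ≤ M →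
      IsCoatom N → Subgroup.centralizer ({x} : Set G) ≤ N → (Cfsg.kappa N).Nonempty →
      ∃ E : Subgroup ↥M, Cfsg.IsFrobeniusComplement E)
    (X : Set G) (hX : X = Cfsg.typeA M ∨ X = Cfsg.typeA0 M) :
    (∀ x ∈ X, ∀ g : G, g * x * g⁻¹ ∈ X → ∃ m ∈ M, m * x * m⁻¹ = g * x * g⁻¹) ∧
      (∀ x ∈ X, ¬ Subgroup.centralizer ({x} : Set G) ≤ M → x ∈ Cfsg.typeA1 M ∧
        ∃! L : Subgroup G, IsCoatom L ∧ Subgroup.centralizer ({x} : Set G) ≤ L) ∧
      ∀ x ∈ X, ¬ Subgroup.centralizer ({x} : Set G) ≤ M → ∀ L : Subgroup G, IsCoatom L →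
        Subgroup.centralizer ({x} : Set G) ≤ L →
        Cfsg.IsComplIn (Cfsg.fittingHallOf L) (M ⊓ L) L ∧
        Subgroup.centralizer ({x} : Set G) ≤ Subgroup.normalizer
          ((Cfsg.fittingHallOf L ⊓ Subgroup.centralizer ({x} : Set G) : Subgroup G) : Set G) ∧
        Cfsg.IsComplIn (Cfsg.fittingHallOf L ⊓ Subgroup.centralizer ({x} : Set G))
          (M ⊓ Subgroup.centralizer ({x} : Set G)) (Subgroup.centralizer ({x} : Set G)) ∧
        (∀ y ∈ X, (Nat.card (Cfsg.fittingHallOf L)).Coprime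
          (Nat.card ↥(M ⊓ Subgroup.centralizer ({y} : Set G)))) ∧
        (x ∈ Cfsg.typeA L ∧ x ∉ Cfsg.typeA1 L) ∧
        (Cfsg.IsOfTypeI L ∨ Cfsg.IsOfTypeII L) ∧
        (Cfsg.IsOfTypeII L → ∃ E : Subgroup ↥M, Cfsg.IsFrobeniusComplement E ∧
          Cfsg.frobeniusKernel E = ((Cfsg.fittingHall ↥M : Subgroup ↥M) : Set ↥M)) := by
  obtain ⟨K, U, hKU⟩ := exists_decomp_any hG hM
  have hXA : X ⊆ Cfsg.typeA0 M := by
    rcases hX with rfl | rfl
    · exact Set.subset_union_left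
    · exact subset_rfl
  have hI' := hI M K U hM hKU
  refine ⟨fun x hx g hgx => typeA0_fusion hG hM hKU hI' (hXA hx) (hXA hgx), fun x hx hxM => ?_,
    fun x hx hxM L hL hxL => ?_⟩
  · obtain ⟨hxS, hx1⟩ := typeA0_mem_sigmaCore hG hM hKU hI' (hXA hx) hxM
    obtain ⟨N, h⟩ := BGSets.exists_isNeighbour hG hM hxS hx1 hxM
    refine ⟨?_, N, ⟨h.coatom, h.cent_le⟩, fun L hL => h.unique L hL.1 hL.2⟩
    rw [typeA1_eq hG hM hKU]
    exact ⟨hxS, hx1⟩
  obtain ⟨hxS, hx1⟩ := typeA0_mem_sigmaCore hG hM hKU hI' (hXA hx) hxM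
  obtain ⟨N, h⟩ := BGSets.exists_isNeighbour hG hM hxS hx1 hxM
  obtain rfl := h.eq hL hxL
  obtain ⟨K', U', hLU⟩ := exists_decomp_any hG hL
  obtain ⟨hU', hxA⟩ := h.sigmaA_data hG hxS hx1 hxM hLU
  have heq := h.eq_fittingHall hG
  refine ⟨?_, ?_, ?_, fun y hy => neighbour_coprime hG hM hKU hI' hxS hx1 h (hXA hy), ⟨?_, ?_⟩, ?_, ?_⟩
  · rw [← heq]
    exact isComplIn_swap h.compl
  · rw [← heq]
    exact h.cent_normalizes
  · rw [← heq]
    exact isComplIn_swap h.cent_compl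
  · rw [typeA_eq hG hL hLU (hI L K' U' hL hLU)]
    exact ⟨hxA, hx1⟩
  · rw [typeA1_eq hG hL hLU]
    exact fun h' => h.notMem_sigmaCore hxS hx1 h'.1
  · by_cases hK' : K' = ⊥
    · exact Or.inl (hI L K' U' hL hLU hK' hU')
    · exact Or.inr ((type_two_iff hG hL hLU).2 ⟨hK', hU'⟩)
  · intro hII
    have hK' := ((type_two_iff hG hL hLU).1 hII).1
    obtain ⟨E, hE⟩ := hF x L hxS hx1 hxM hL hxL (Set.nonempty_iff_ne_empty.2 fun he =>
      hK' ((BGSets.K_eq_bot_iff_kappa hLU).2 he))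
    exact ⟨E, hE, frobenius_kernel_eq_fittingHall hE⟩

end CfsgLib.BGFifteen
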