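import Cfsg.Agent.BGFifteen.TypeThree
import Cfsg.Agent.S1360
import Cfsg.Agent.S1372

/-!
B&G 16: type II.
-/

set_option autoImplicit false
set_option linter.unusedSectionVars false
set_option linter.style.haveILetI false

namespace CfsgLib.BGFifteen

open CfsgLib.BenderUnique CfsgLib.Uniq CfsgLib.SigmaGroups
open scoped commutatorElement

variable {G : Type*} [Group G] [Finite G] {M K U V W : Subgroup G}

/-- The largest normal nilpotent Hall subgroup of a subgroup between `M_σ` and `M` whose other primes avoid `κ`. -/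
theorem fittingHallOf_between (hG : Cfsg.IsMinSimpleOddOrder G) (hM : IsCoatom M)
    (hn : Group.IsNilpotent (Cfsg.sigmaCore M)) (hσW : Cfsg.sigmaCore M ≤ W) (hWM : W ≤ M)
    (hW : ∀ t : ℕ, t.Prime → t ∣ Nat.card W → t ∉ Cfsg.sigma M → t ∉ Cfsg.kappa M ∧ ¬ t ∣ W.relIndex M) :
    Cfsg.fittingHallOf W = Cfsg.sigmaCore M := by
  set H := Cfsg.sigmaCore M with hH
  set H₀ := H.subgroupOf W with hH₀
  haveI : H₀.Normal := Subgroup.normal_subgroupOf_of_le_normalizer (hWM.trans (le_normalizer_sigmaCore M))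
  have hge : H₀ ≤ Cfsg.fittingHall ↥W := by
    haveI := hn
    refine le_sSup ⟨inferInstance, Group.nilpotent_of_mulEquiv (Subgroup.subgroupOfEquivOfLe hσW).symm,
      Nat.coprime_of_dvd fun t ht h1 h2 => ?_⟩
    rw [hH₀, Nat.card_congr (Subgroup.subgroupOfEquivOfLe hσW).toEquiv] at h1
    exact (sigmaCore_hallOf hG hM).2.2 t ht (mem_sigma_of_dvd M ht h1)
      ((show t ∣ H.relIndex W from h2).trans (relIndex_dvd_of_normal (le_normalizer_sigmaCore M) hWM))
  haveI : Group.IsNilpotent ↥(Cfsg.fittingHallOf W) := by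
    haveI := fittingHall_nilpotent ↥W
    exact Group.nilpotent_of_mulEquiv (Subgroup.equivMapOfInjective (Cfsg.fittingHall ↥W) _ W.subtype_injective)
  set N := Cfsg.fittingHallOf W with hN
  have hNW : N ≤ W := Subgroup.map_subtype_le _
  have hHN : H ≤ N := by
    rw [← Subgroup.map_subgroupOf_eq_of_le hσW]
    exact Subgroup.map_mono hge
  refine le_antisymm (le_of_prime_relIndex fun t ht hd hdi => ?_) hHN
  by_cases hs : t ∈ Cfsg.sigma M
  · exact (sigmaCore_hallOf hG hM).2.2 t ht hs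
      (hdi.trans (relIndex_dvd_of_normal (le_normalizer_sigmaCore M) (hNW.trans hWM)))
  haveI := Fact.mk ht
  obtain ⟨hk, hWi⟩ := hW t ht (hd.trans (Subgroup.card_dvd_of_le hNW)) hs
  obtain ⟨T⟩ : Nonempty (Sylow t ↥N) := inferInstance
  set T' := (T : Subgroup ↥N).map N.subtype with hT'
  have hT'M : T' ≤ M := (Subgroup.map_subtype_le _).trans (hNW.trans hWM)
  have hidx : ¬ t ∣ (T'.subgroupOf M).index := by
    show ¬ t ∣ T'.relIndex M
    rw [← Subgroup.relIndex_mul_relIndex T' N M (Subgroup.map_subtype_le _) (hNW.trans hWM),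
      ← Subgroup.relIndex_mul_relIndex N W M hNW hWM]
    refine fun h => (ht.dvd_mul.1 h).elim (fun h' => ?_) fun h' => (ht.dvd_mul.1 h').elim (fun h'' => ?_) hWi
    · rw [hT', Subgroup.relIndex, Subgroup.subgroupOf, Subgroup.comap_map_eq_self_of_injective N.subtype_injective] at h'
      exact T.not_dvd_index h'
    · rw [hN, Cfsg.fittingHallOf, Subgroup.relIndex, Subgroup.subgroupOf,
        Subgroup.comap_map_eq_self_of_injective W.subtype_injective] at h''
      rw [hN, Cfsg.fittingHallOf, Subgroup.card_map_of_injective W.subtype_injective] at hd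
      exact Nat.not_coprime_of_dvd_of_dvd ht.one_lt hd h'' (CfsgLib.TypeP.fittingHall_coprime ↥W)
  set S := ((T.isPGroup'.map N.subtype).of_equiv (Subgroup.subgroupOfEquivOfLe hT'M).symm).toSylow hidx with hS
  have hST : (S : Subgroup ↥M).map M.subtype = T' := Subgroup.map_subgroupOf_eq_of_le hT'M
  have hbot := (omega_structure hG hM (hd.trans (Subgroup.card_dvd_of_le (hNW.trans hWM))) hs hk (S := S) rfl).2.1
  refine sigmaCore_ne_bot hG hM (le_bot_iff.1 (hbot ▸ le_inf le_rfl (Subgroup.le_centralizer_iff.1 ?_)))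
  rw [Subgroup.closure_le]
  rintro x ⟨hx, -⟩
  rw [hST] at hx
  refine Subgroup.mem_centralizer_iff.2 fun h hh => ?_
  obtain ⟨i, hi⟩ := IsPGroup.iff_orderOf.1 (T.isPGroup'.map N.subtype) ⟨x, hx⟩
  rw [Subgroup.orderOf_mk] at hi
  exact (congrArg Subtype.val (Hall.DPi.commute_of_coprime_orders (H := ↥N) (p := t) (i := i)
    (a := ⟨x, Subgroup.map_subtype_le _ hx⟩) (b := ⟨h, hHN hh⟩) (by rw [Subgroup.orderOf_mk, hi])
    (by
      rw [Subgroup.orderOf_mk]
      exact (ht.coprime_iff_not_dvd.2 fun h' =>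
        hs (mem_sigma_of_dvd M ht (h'.trans (Subgroup.orderOf_dvd_natCard H hh)))).symm))).symm

theorem type_two_iff (hG : Cfsg.IsMinSimpleOddOrder G) (hM : IsCoatom M)
    (hKU : Cfsg.IsSigmaDecomposition M K U) : Cfsg.IsOfTypeII M ↔ (K ≠ ⊥ ∧ U ≠ ⊥) := by
  constructor
  · rintro ⟨W₁, V, W₂, hP, hV1, -, -, -, hN, -, -⟩
    have hK1 := ne_bot_of_typeP hG hM hKU hP
    refine ⟨hK1, fun hU => hN ?_⟩
    have hder := decomp_derived hG hM hKU hK1
    rw [hU, bot_sup_eq] at hder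
    exact normalizer_le_of_u_bot hG hM hder hP.U_compl hP.U_nilpotent hV1
  rintro ⟨hK1, hU1⟩
  obtain ⟨hn, -⟩ := decomp_fixed hG hM hKU hU1
  obtain ⟨hE, hU⟩ := decomp_complement_card hG hM hKU
  have hder := decomp_derived hG hM hKU hK1
  obtain ⟨hUc, hNU⟩ := Cfsg.Agent.S1363.result hG M hM K U hKU hK1
  haveI := hUc
  have hHσ := (fittingHallOf_eq_iff hG hM).2 hn
  set H := Cfsg.sigmaCore M with hH
  have hUn : U ≤ Subgroup.normalizer (H : Set G) := hU.1.trans (le_normalizer_sigmaCore M)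
  have hHU : H ⊓ U = ⊥ := by
    rw [inf_comm]
    exact le_bot_iff.1 (hE.2.2.1 ▸ inf_le_inf_right _ le_sup_right)
  have hcompl : Cfsg.IsComplIn (Cfsg.fittingHallOf M) U ⁅M, M⁆ := by
    rw [hHσ, hder]
    refine ⟨le_sup_right, le_sup_left, hHU, fun m hm => ?_⟩
    obtain ⟨u, hu, s, hs, rfl⟩ := CoprimeAction.exists_mul_of_mem_sup hUn hm
    exact ⟨u * s * u⁻¹, (Subgroup.mem_normalizer_iff.1 (hUn hu) s).1 hs, u, hu, by group⟩
  have hUnil : Group.IsNilpotent ↥U := by
    letI : CommGroup ↥U := { (inferInstance : Group ↥U) with mul_comm := fun a b => mul_comm' a b }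
    infer_instance
  have hP := typeP_of_decomp hG hM hKU hK1 hUnil hKU.normal hcompl
  obtain ⟨hprime, hTI, -⟩ := Cfsg.Agent.S1372.result hG M hM K U hKU hK1 hU1
  set D := ⁅M, M⁆ with hD
  have hDM : D ≤ M := Subgroup.commutator_le_self M
  have hσD : H ≤ D := sigmaCore_le_derived hG hM
  have hUD : U ≤ D := u_le_derived hG hM hKU hK1
  have hcard : Nat.card H * Nat.card U = Nat.card D := by
    have h := CfsgLib.TypeP.card_eq_of_isComplIn hcompl
    rw [hHσ] at h
    exact h.symm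
  have hFD : Cfsg.fittingHallOf D = H := fittingHallOf_between hG hM hn hσD hDM fun t ht hd hs => by
    have hdU : t ∣ Nat.card U :=
      (ht.dvd_mul.1 (hcard.symm ▸ hd)).resolve_left fun h => hs (mem_sigma_of_dvd M ht h)
    obtain ⟨-, hk, -⟩ := hU.2.1 t ht hdU
    refine ⟨hk, fun h => hU.2.2 t ht ⟨ht, hk, hs⟩ ?_⟩
    rw [← Subgroup.relIndex_mul_relIndex U D M hUD hDM]
    exact h.trans (dvd_mul_left _ _)
  refine ⟨K, U, _, hP, hU1, hprime, hTI, hUc, hNU, ?_, hFD.trans hHσ.symm⟩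
  have hFH : Cfsg.fittingHall ↥D = H.subgroupOf D := by
    rw [← hFD, Cfsg.fittingHallOf, Subgroup.subgroupOf, Subgroup.comap_map_eq_self_of_injective D.subtype_injective]
  have hsolv : Group.IsSolvable ↥D := isSolvable_of_ne_top hG fun h => hM.1 (top_le_iff.1 (h ▸ hDM))
  refine ⟨hsolv, odd_card hG D, ?_, ?_, U.subgroupOf D, ?_, ?_, ⟨U.subgroupOf D, le_rfl, Subgroup.le_normalizer, ?_,
    fun _ _ _ => inf_le_left⟩, ?_⟩
  · rw [hFH]
    intro h
    exact sigmaCore_ne_bot hG hM (le_bot_iff.1 fun x hx => by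
      have : (⟨x, hσD hx⟩ : ↥D) ∈ (⊥ : Subgroup ↥D) := h ▸ Subgroup.mem_subgroupOf.2 hx
      exact Subgroup.mem_bot.2 (congrArg Subtype.val (Subgroup.mem_bot.1 this)))
  · rw [hFH, Ne, Subgroup.subgroupOf_eq_top]
    intro h
    exact hU1 (le_bot_iff.1 (hHU ▸ le_inf (hUD.trans h) le_rfl))
  · intro h
    refine hU1 (le_bot_iff.1 fun x hx => ?_)
    have : (⟨x, hUD hx⟩ : ↥D) ∈ (⊥ : Subgroup ↥D) := h ▸ Subgroup.mem_subgroupOf.2 hx
    exact Subgroup.mem_bot.2 (congrArg Subtype.val (Subgroup.mem_bot.1 this))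
  · rw [hFH]
    refine Subgroup.isComplement'_of_card_mul_and_disjoint ?_ ?_
    · rw [Nat.card_congr (Subgroup.subgroupOfEquivOfLe hσD).toEquiv,
        Nat.card_congr (Subgroup.subgroupOfEquivOfLe hUD).toEquiv, hcard]
    · rw [disjoint_iff]
      refine le_bot_iff.1 fun x hx => Subgroup.mem_bot.2 (Subtype.ext ?_)
      have : (x : G) ∈ H ⊓ U := hx
      rwa [hHU, Subgroup.mem_bot] at this
  · exact ⟨⟨fun a b => Subtype.ext (Subtype.ext (setLike_mul_comm (s := U) (Subgroup.mem_subgroupOf.1 a.2) (Subgroup.mem_subgroupOf.1 b.2)))⟩⟩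
  · obtain ⟨U₀, hU₀U, hexp, hfree⟩ := Cfsg.Agent.S1360.result hG M hM K U hKU
    refine ⟨U₀.subgroupOf D, fun x hx => hU₀U hx, ?_, fun u hu hu1 x hx he => ?_⟩
    · rw [Monoid.exponent_eq_of_mulEquiv (Subgroup.subgroupOfEquivOfLe (hU₀U.trans hUD)), hexp,
        Monoid.exponent_eq_of_mulEquiv (Subgroup.subgroupOfEquivOfLe hUD)]
    · rw [hFH] at hx
      by_contra hx1
      exact hu1 (Subtype.ext (hfree u hu ⟨hDM u.2, x, hx, fun h => hx1 (Subtype.ext h), congrArg Subtype.val he⟩))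

end CfsgLib.BGFifteen
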