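import Cfsg.Agent.BGFifteen.TypeData
import Cfsg.Agent.BGFifteen.TypeTwo
import Cfsg.Agent.Sigma.BetaElement
import Cfsg.Agent.Sigma.Beta
import Cfsg.Agent.S1422
import Cfsg.Agent.S1416
import Cfsg.Agent.S1454
import Cfsg.Agent.ExtraCyclic.Main

/-!
B&G 15.7, 16: type V. When `M_σ = M_F` fails to be a TI-subset its `p'`-core is cyclic.
-/

set_option autoImplicit false
set_option linter.unusedSectionVars false
set_option linter.style.haveILetI false

namespace CfsgLib.BGFifteen

open CfsgLib.BenderUnique CfsgLib.Uniq CfsgLib.SigmaGroups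
open scoped commutatorElement

variable {G : Type*} [Group G] [Finite G] {M K U D H T T' A B : Subgroup G}

theorem le_centralizer_of_ne {s t : ℕ} [Fact s.Prime] (ht : t.Prime) (hne : s ≠ t) (hD : Group.IsNilpotent D)
    (hT : IsPGroup s T) (hT' : IsPGroup t T') (hTD : T ≤ D) (hT'D : T' ≤ D) :
    T ≤ Subgroup.centralizer (T' : Set G) := by
  haveI := hD
  haveI := Fact.mk ht
  intro a ha
  refine Subgroup.mem_centralizer_iff.2 fun b hb => ?_
  obtain ⟨i, hi⟩ := IsPGroup.iff_orderOf.1 hT ⟨a, ha⟩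
  obtain ⟨j, hj⟩ := IsPGroup.iff_orderOf.1 hT' ⟨b, hb⟩
  rw [Subgroup.orderOf_mk] at hi hj
  exact (congrArg Subtype.val (Hall.DPi.commute_of_coprime_orders (H := ↥D) (p := s) (i := i)
    (a := ⟨a, hTD ha⟩) (b := ⟨b, hT'D hb⟩) (by rw [Subgroup.orderOf_mk, hi])
    (by
      rw [Subgroup.orderOf_mk, hj]
      exact ((Nat.coprime_primes ht (Fact.out : s.Prime)).2 hne.symm).pow_left j))).symm

theorem commutator_sup_le_of_commute (hc : A ≤ Subgroup.centralizer (B : Set G)) [IsMulCommutative B] :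
    ⁅A ⊔ B, A ⊔ B⁆ ≤ ⁅A, A⁆ := by
  rw [Subgroup.commutator_le]
  intro x hx y hy
  obtain ⟨a, ha, b, hb, rfl⟩ := CoprimeAction.exists_mul_of_mem_sup
    (hc.trans (Subgroup.centralizer_le_normalizer _)) hx
  obtain ⟨c, hc', d, hd, rfl⟩ := CoprimeAction.exists_mul_of_mem_sup
    (hc.trans (Subgroup.centralizer_le_normalizer _)) hy
  have h1 : Commute b c := Subgroup.mem_centralizer_iff.1 (hc hc') b hb
  have h2 : Commute b d := setLike_mul_comm hb hd
  have h3 : Commute d a := Subgroup.mem_centralizer_iff.1 (hc ha) d hd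
  have h4 : ⁅a * b, c * d⁆ = ⁅a, c⁆ := by
    calc ⁅a * b, c * d⁆ = a * (b * (c * d) * b⁻¹) * a⁻¹ * (c * d)⁻¹ := by rw [commutatorElement_def]; group
      _ = a * (c * d) * a⁻¹ * (c * d)⁻¹ := by rw [(h1.mul_right h2).eq, mul_inv_cancel_right]
      _ = a * c * (d * a⁻¹) * (c * d)⁻¹ := by group
      _ = a * c * (a⁻¹ * d) * (c * d)⁻¹ := by rw [h3.inv_right.eq]
      _ = ⁅a, c⁆ := by rw [commutatorElement_def]; group
  rw [h4]
  exact Subgroup.commutator_mem_commutator ha hc'

/-- The shape of `M_σ` around an element moved into it by an element outside `M`. -/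
theorem shared_element_data (hG : Cfsg.IsMinSimpleOddOrder G) (hM : IsCoatom M)
    (hn : Group.IsNilpotent (Cfsg.sigmaCore M)) (hab : ¬ IsMulCommutative ↥(Cfsg.sigmaCore M)) {x g : G} {p : ℕ}
    [Fact p.Prime] (hx : x ∈ Cfsg.sigmaCore M) (hxo : orderOf x = p) (hg : g ∉ M)
    (hgx : g * x * g⁻¹ ∈ Cfsg.sigmaCore M) :
    p ∈ Cfsg.sigma M ∧ p ∉ Cfsg.beta M ∧
      ∃ P : Subgroup G, IsPGroup p P ∧ P ≤ Cfsg.sigmaCore M ∧ ¬ IsMulCommutative ↥P ∧
        ¬ p ∣ P.relIndex M ∧ (∀ T : Subgroup G, IsPGroup p T → T ≤ Cfsg.sigmaCore M → T ≤ P) ∧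
        ∀ (t : ℕ) (T : Subgroup G), t.Prime → t ≠ p → IsPGroup t T → T ≤ Cfsg.sigmaCore M → IsCyclic ↥T := by
  set H := Cfsg.sigmaCore M with hH
  have hHM : H ≤ M := Subgroup.map_subtype_le _
  have hps : p ∈ Cfsg.sigma M := mem_sigma_of_dvd M Fact.out (hxo ▸ Subgroup.orderOf_dvd_natCard H hx)
  have hC : ¬ Subgroup.centralizer ({x} : Set G) ≤ M := fun hC =>
    hg (mem_of_conj_mem_of_elem hG hM hps hxo (hHM hx) hC (hHM hgx))
  have hb : p ∉ Cfsg.beta M := fun hb => hC (unique_centralizer_of_beta hG hM hb (hHM hx) hxo).2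
  have hxp : IsPGroup p (Subgroup.zpowers x) := IsPGroup.of_card (n := 1) (by rw [Nat.card_zpowers, hxo, pow_one])
  obtain ⟨L, hL, hCL⟩ := exists_coatom_ge (centralizer_singleton_ne_top hG
    (fun e => (Fact.out : p.Prime).one_lt.ne (by rw [← hxo, e, orderOf_one])) :
      Subgroup.centralizer ({x} : Set G) ≠ ⊤)
  have hLM : L ≠ M := fun e => hC (e ▸ hCL)
  have hTC : ∀ (t : ℕ) (T : Subgroup G), t.Prime → t ≠ p → IsPGroup t T → T ≤ H →
      T ≤ Subgroup.centralizer ({x} : Set G) := fun t T ht hne hT hTH => by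
    haveI := Fact.mk ht
    rw [← centralizer_zpowers]
    exact le_centralizer_of_ne (Fact.out : p.Prime) hne hn hT hxp hTH (Subgroup.zpowers_le.2 hx)
  have habelian : ∀ (t : ℕ) (T : Subgroup G), t.Prime → t ≠ p → IsPGroup t T → T ≤ H → IsMulCommutative ↥T :=
    fun t T ht hne hT hTH => by
      haveI := Fact.mk ht
      by_contra hna
      obtain ⟨L₀, -, huniq⟩ := Cfsg.Agent.S1422.result hG t T hT hna
      exact hLM ((huniq L ⟨hL, (hTC t T ht hne hT hTH).trans hCL⟩).trans (huniq M ⟨hM, hTH.trans hHM⟩).symm)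
  obtain ⟨P₀⟩ : Nonempty (Sylow p ↥H) := inferInstance
  set P := (P₀ : Subgroup ↥H).map H.subtype with hP
  have hPH : P ≤ H := Subgroup.map_subtype_le _
  have hPp : IsPGroup p P := P₀.isPGroup'.map _
  haveI := hn
  have hiff := (Group.isNilpotent_of_finite_tfae (G := ↥H)).out 0 3
  haveI hP₀n : (P₀ : Subgroup ↥H).Normal := hiff.1 hn p inferInstance P₀
  have hPmax : ∀ T : Subgroup G, IsPGroup p T → T ≤ H → T ≤ P := fun T hT hTH => by
    rw [← Subgroup.map_subgroupOf_eq_of_le hTH]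
    exact Subgroup.map_mono (Hall.sylow_le_of_normal_not_dvd (P₀ : Subgroup ↥H) P₀.not_dvd_index
      (hT.of_equiv (Subgroup.subgroupOfEquivOfLe hTH).symm))
  have hPi : ¬ p ∣ P.relIndex M := by
    rw [← Subgroup.relIndex_mul_relIndex P H M hPH hHM]
    refine fun h => ((Fact.out : p.Prime).dvd_mul.1 h).elim (fun h' => ?_)
      ((sigmaCore_hallOf hG hM).2.2 p Fact.out hps)
    rw [hP, Subgroup.relIndex, Subgroup.subgroupOf, Subgroup.comap_map_eq_self_of_injective H.subtype_injective] at h'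
    exact P₀.not_dvd_index h'
  have hPna : ¬ IsMulCommutative ↥P := fun hPc => by
    haveI := hPc
    refine hab ⟨⟨fun a b => Subtype.ext ?_⟩⟩
    have hcen : H ≤ Subgroup.centralizer (H : Set G) := le_of_prime_subgroups fun t ht T hT hTH =>
      Subgroup.le_centralizer_iff.1 (le_of_prime_subgroups fun s hs S hS hSH => by
        haveI := Fact.mk hs
        by_cases hst : s = t
        · subst hst
          by_cases hsp : s = p
          · subst hsp
            intro a ha
            exact Subgroup.mem_centralizer_iff.2 fun b hb => setLike_mul_comm (hPmax T hT hTH hb) (hPmax S hS hSH ha)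
          · obtain ⟨R₀⟩ : Nonempty (Sylow s ↥H) := inferInstance
            haveI : (R₀ : Subgroup ↥H).Normal := hiff.1 hn s inferInstance R₀
            haveI := habelian s _ hs hsp (R₀.isPGroup'.map H.subtype) (Subgroup.map_subtype_le _)
            intro a ha
            refine Subgroup.mem_centralizer_iff.2 fun b hb => ?_
            have hle : ∀ W : Subgroup G, IsPGroup s W → W ≤ H → W ≤ (R₀ : Subgroup ↥H).map H.subtype :=
              fun W hW hWH => by
                rw [← Subgroup.map_subgroupOf_eq_of_le hWH]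
                exact Subgroup.map_mono (Hall.sylow_le_of_normal_not_dvd (R₀ : Subgroup ↥H) R₀.not_dvd_index
                  (hW.of_equiv (Subgroup.subgroupOfEquivOfLe hWH).symm))
            exact setLike_mul_comm (hle T hT hTH hb) (hle S hS hSH ha)
        · exact le_centralizer_of_ne ht hst hn hS hT hSH hTH)
    exact (Subgroup.mem_centralizer_iff.1 (hcen a.2) b b.2).symm
  refine ⟨hps, hb, P, hPp, hPH, hPna, hPi, hPmax, fun t T ht hne hT hTH => ?_⟩
  haveI := Fact.mk ht
  by_contra hc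
  have hT1 : T ≠ ⊥ := fun e => hc (e ▸ inferInstance)
  obtain ⟨A, hAT, hA, hAc⟩ := exists_elem_sq
    (ne_two hG ((dvd_card_of_ne_bot hT hT1).trans (Subgroup.card_subgroup_dvd_card T))) hT hc
  have hCA := (Cfsg.Agent.S1416.result hG L hL t A ⟨hAT.trans ((hTC t T ht hne hT hTH).trans hCL), hA, hAc⟩).1
  have hPA : P ≤ Subgroup.centralizer (A : Set G) :=
    (le_centralizer_of_ne ht hne.symm hn hPp hT hPH hTH).trans (Subgroup.centralizer_le hAT)
  obtain ⟨L₀, -, huniq⟩ := Cfsg.Agent.S1422.result hG p P hPp hPna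
  exact hLM ((huniq L ⟨hL, hPA.trans hCA⟩).trans (huniq M ⟨hM, hPH.trans hHM⟩).symm)

theorem isNarrow_congr {p : ℕ} {R S : Type*} [Group R] [Group S] (e : R ≃* S) (h : Cfsg.IsNarrow p R)
    (hr : ¬ Cfsg.PRankLE p 2 S) : Cfsg.IsNarrow p S := by
  rcases h with h | ⟨R₀, R₁, h0, h1, hinf, hcomm, hsup⟩
  · refine absurd ?_ hr
    intro E hEc hEp
    haveI := hEc
    have h2 := h (E.map e.symm.toMonoidHom) inferInstance ?_
    · rwa [Subgroup.card_map_of_injective (show Function.Injective e.symm.toMonoidHom from e.symm.injective)] at h2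
    · rintro _ ⟨z, hz, rfl⟩
      rw [← map_pow, hEp z hz, map_one]
  · haveI := h1
    refine Or.inr ⟨R₀.map e.toMonoidHom, R₁.map e.toMonoidHom, ?_, ?_, ?_, ?_, ?_⟩
    · rw [Subgroup.card_map_of_injective (show Function.Injective e.toMonoidHom from e.injective), h0]
    · exact isCyclic_of_surjective (R₁.equivMapOfInjective e.toMonoidHom e.injective)
        (R₁.equivMapOfInjective e.toMonoidHom e.injective).surjective
    · rw [← Subgroup.map_inf _ _ _ (show Function.Injective e.toMonoidHom from e.injective), hinf, Subgroup.map_bot]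
    · rintro _ ⟨a, ha, rfl⟩ _ ⟨b, hb, rfl⟩
      rw [← map_mul, hcomm a ha b hb, map_mul]
    · rw [← Subgroup.map_sup, hsup]
      ext z
      constructor
      · rintro ⟨w, hw, rfl⟩
        rw [Subgroup.mem_centralizer_iff]
        rintro _ ⟨r, hr', rfl⟩
        rw [← map_mul, Subgroup.mem_centralizer_iff.1 hw r hr', map_mul]
      · intro hz
        refine ⟨e.symm z, Subgroup.mem_centralizer_iff.2 fun r hr' => ?_, e.apply_symm_apply z⟩
        apply e.injective
        rw [map_mul, map_mul, e.apply_symm_apply]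
        exact Subgroup.mem_centralizer_iff.1 hz (e r) ⟨r, hr', rfl⟩

/-- The `p`-part: either `|K|` divides `p - 1`, or it is extraspecial of order `p³` and `|K|` divides `p + 1`. -/
theorem kappa_card_dvd (hG : Cfsg.IsMinSimpleOddOrder G) (hM : IsCoatom M)
    (hKU : Cfsg.IsSigmaDecomposition M K U) (hK1 : K ≠ ⊥) (hU : U = ⊥)
    (hn : Group.IsNilpotent (Cfsg.sigmaCore M)) {P : Subgroup G} {p : ℕ} [Fact p.Prime]
    (hps : p ∈ Cfsg.sigma M) (hb : p ∉ Cfsg.beta M) (hPp : IsPGroup p P) (hPH : P ≤ Cfsg.sigmaCore M)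
    (hPna : ¬ IsMulCommutative ↥P) (hPi : ¬ p ∣ P.relIndex M)
    (hPmax : ∀ T : Subgroup G, IsPGroup p T → T ≤ Cfsg.sigmaCore M → T ≤ P)
    (hcyc : ∀ (t : ℕ) (T : Subgroup G), t.Prime → t ≠ p → IsPGroup t T → T ≤ Cfsg.sigmaCore M → IsCyclic ↥T) :
    Nat.card K ∣ p - 1 ∨ (Nat.card P = p ^ 3 ∧ Nat.card K ∣ p + 1) := by
  set H := Cfsg.sigmaCore M with hH
  set S := H ⊓ Subgroup.centralizer (K : Set G) with hS
  have hHM : H ≤ M := Subgroup.map_subtype_le _
  have hPM : P ≤ M := hPH.trans hHM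
  obtain ⟨Ms, hMs, Pair⟩ := exists_kappaPair hG hM hKU.hall hK1
  haveI hScyc : IsCyclic S := isCyclic_kappa_hall hG hMs Pair.hall_star
  have hKn : K ≤ Subgroup.normalizer (P : Set G) := by
    rw [Subgroup.le_normalizer_iff]
    intro k hk a ha
    have hmap : P.map (MulAut.conj k).toMonoidHom ≤ P := hPmax _ (hPp.map _) (by
      rintro _ ⟨w, hw, rfl⟩
      exact (Subgroup.mem_normalizer_iff.1 (le_normalizer_sigmaCore M (hKU.hall.1 hk)) w).1 (hPH hw))
    exact hmap ⟨a, ha, rfl⟩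
  have hp2 : p ≠ 2 := ne_two hG (hps.2.1.trans (Subgroup.card_subgroup_dvd_card M))
  have hcopK : (Nat.card K).Coprime p := ((Fact.out : p.Prime).coprime_iff_not_dvd.2 fun h =>
    (hKU.hall.2.1 p Fact.out h).2.2.1 hps).symm
  have hlines : ∀ k ∈ K, k ≠ 1 → H ⊓ Subgroup.centralizer ({k} : Set G) ≤ S := fun k hk hk1 => by
    obtain ⟨t, X, ht, hX, hXc, hC⟩ := exists_line_of_mem hk hk1
    rw [hS, ← ((decomp_kappa_structure hG hM hKU hK1).2 X hX (by rw [hXc]; exact ht)).1]
    exact inf_le_inf_left _ hC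
  have hfaith : K ⊓ Subgroup.centralizer (P : Set G) = ⊥ := by
    rw [eq_bot_iff]
    rintro k ⟨hk, hkc⟩
    by_contra hk1
    have hPS : P ≤ S := (le_inf hPH fun a ha => Subgroup.mem_centralizer_singleton_iff.2
      (Subgroup.mem_centralizer_iff.1 hkc a ha)).trans (hlines k hk hk1)
    haveI : IsCyclic P := Subgroup.isCyclic_of_le hPS
    exact hPna IsCyclic.isMulCommutative
  have hPidx : ¬ p ∣ (P.subgroupOf M).index := hPi
  set PS := (hPp.of_equiv (Subgroup.subgroupOfEquivOfLe hPM).symm).toSylow hPidx with hPS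
  by_cases hr : Cfsg.PRankLE p 2 ↥P
  swap
  · left
    haveI := hKU.cyclic
    haveI : Group.IsSolvable K := isSolvable_of_ne_top hG fun h => hM.1 (top_le_iff.1 (h ▸ hKU.hall.1))
    obtain ⟨k, hk⟩ := IsCyclic.exists_generator (α := ↥K)
    have hnar : Cfsg.IsNarrow p ↥P := isNarrow_congr (Subgroup.subgroupOfEquivOfLe hPM)
      (isNarrow_sylow hG hM hps.2.1 hb PS) hr
    have h := ((Cfsg.Agent.S1454.result p hp2 P K hPp hnar hKn inferInstance (odd_card hG K) hfaith).2.1 hr) k k.2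
    have hc : orderOf (k : G) = Nat.card K := by
      rw [Subgroup.orderOf_coe]; exact orderOf_eq_card_of_forall_mem_zpowers hk
    rw [hc] at h
    exact h hcopK
  obtain ⟨PG, hPG, hPGM, -⟩ := exists_sylow hps hPp hPM
  have hPeq : (PG : Subgroup G) = P :=
    le_antisymm (hPmax _ PG.isPGroup' (le_sigmaCore hG hM hps PG.isPGroup' hPGM)) hPG
  rcases rank_two_structure hG PG (hPeq ▸ hr) with habel | ⟨P₁, P₂, hsup, hcomm, hnc, hcard, hexp, hP₂c, hcl⟩
  · exact absurd (hPeq ▸ habel) hPna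
  rw [hPeq] at hsup
  have hP₁P : P₁ ≤ P := hsup ▸ le_sup_left
  have hP₂P : P₂ ≤ P := hsup ▸ le_sup_right
  have hP₁p : IsPGroup p P₁ := hPp.to_le hP₁P
  obtain ⟨hex, -⟩ := QdOver.extraspecial_cube hP₁p hcard
    (fun a => by rw [← hexp]; exact Monoid.pow_exponent_eq_one a) (fun h => hnc ⟨⟨h⟩⟩)
  set Z := (Subgroup.center ↥P₁).map P₁.subtype with hZ
  have hZc : Nat.card Z = p := by rw [hZ, Subgroup.card_map_of_injective P₁.subtype_injective]; exact hex.2
  have hZeq : Z = P₁ ⊓ Subgroup.centralizer (P₁ : Set G) := by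
    ext z
    constructor
    · rintro ⟨w, hw, rfl⟩
      exact ⟨w.2, Subgroup.mem_centralizer_iff.2 fun t ht =>
        congrArg Subtype.val (Subgroup.mem_center_iff.1 hw ⟨t, ht⟩)⟩
    · rintro ⟨hz1, hz2⟩
      exact ⟨⟨z, hz1⟩, Subgroup.mem_center_iff.2 fun t =>
        Subtype.ext (Subgroup.mem_centralizer_iff.1 hz2 t t.2), rfl⟩
  haveI : IsMulCommutative P₂ := IsCyclic.isMulCommutative
  have hP₁₂ : P₁ ≤ Subgroup.centralizer (P₂ : Set G) := fun a ha =>
    Subgroup.mem_centralizer_iff.2 fun b hb => (hcomm a ha b hb).symm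
  have hPP : ⁅P, P⁆ ≤ Z := by
    rw [← hsup]
    refine (commutator_sup_le_of_commute hP₁₂).trans ?_
    rw [← Subgroup.map_subtype_commutator, hex.1.2.2]
  haveI := hn
  obtain ⟨C, hC, hCc, hCP⟩ : ∃ C : Subgroup G, H ≤ P ⊔ C ∧ IsMulCommutative C ∧
      P ≤ Subgroup.centralizer (C : Set G) := by
    haveI : IsZGroup ↥(Cfsg.pPrimeCore p ↥H) := ⟨fun t ht T => by
      haveI := Fact.mk ht
      set T₁ := ((T : Subgroup ↥(Cfsg.pPrimeCore p ↥H)).map (Cfsg.pPrimeCore p ↥H).subtype).map H.subtype with hT₁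
      by_cases htp : t = p
      · subst htp
        have h1 : (T : Subgroup ↥(Cfsg.pPrimeCore t ↥H)) = ⊥ := by
          by_contra h
          exact PCore.not_dvd_card_pPrimeCore t ↥H ((dvd_card_of_ne_bot T.isPGroup' h).trans (Subgroup.card_subgroup_dvd_card _))
        rw [h1]; infer_instance
      haveI := hcyc t T₁ ht htp ((T.isPGroup'.map _).map _) (Subgroup.map_subtype_le _)
      exact isCyclic_of_surjective
        ((((T : Subgroup ↥(Cfsg.pPrimeCore p ↥H)).equivMapOfInjective _ (Cfsg.pPrimeCore p ↥H).subtype_injective).trans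
          (Subgroup.equivMapOfInjective _ _ H.subtype_injective)).symm) (MulEquiv.surjective _)⟩
    haveI : IsCyclic ↥(Cfsg.pPrimeCore p ↥H) := inferInstance
    set C := (Cfsg.pPrimeCore p ↥H).map H.subtype with hC
    haveI : IsCyclic ↥C := isCyclic_of_surjective
      ((Cfsg.pPrimeCore p ↥H).equivMapOfInjective _ H.subtype_injective) (MulEquiv.surjective _)
    refine ⟨C, le_of_prime_subgroups fun t ht T hT hTH => ?_, IsCyclic.isMulCommutative, ?_⟩
    · haveI := Fact.mk ht
      by_cases htp : t = p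
      · exact le_sup_of_le_left (hPmax T (htp ▸ hT) hTH)
      · refine le_sup_of_le_right ?_
        obtain ⟨R₀⟩ : Nonempty (Sylow t ↥H) := inferInstance
        have hiff := (Group.isNilpotent_of_finite_tfae (G := ↥H)).out 0 3
        haveI hR₀ : (R₀ : Subgroup ↥H).Normal := hiff.1 hn t inferInstance R₀
        rw [← Subgroup.map_subgroupOf_eq_of_le hTH]
        refine Subgroup.map_mono ((Hall.sylow_le_of_normal_not_dvd (R₀ : Subgroup ↥H) R₀.not_dvd_index
          (hT.of_equiv (Subgroup.subgroupOfEquivOfLe hTH).symm)).trans (PCore.le_pPrimeCore hR₀ ?_))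
        obtain ⟨i, hi⟩ := R₀.isPGroup'.exists_card_eq
        rw [hi]
        exact ((Nat.coprime_primes ht (Fact.out : p.Prime)).2 htp).pow_left i
    · refine Subgroup.le_centralizer_iff.1 (le_of_prime_subgroups fun t ht T hT hTC => ?_)
      haveI := Fact.mk ht
      by_cases htp : t = p
      · subst htp
        by_cases hT1 : T = ⊥
        · rw [hT1]; exact bot_le
        refine absurd ((dvd_card_of_ne_bot hT hT1).trans (Subgroup.card_dvd_of_le hTC)) ?_
        rw [Subgroup.card_map_of_injective H.subtype_injective]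
        exact PCore.not_dvd_card_pPrimeCore t ↥H
      · exact le_centralizer_of_ne (Fact.out : p.Prime) htp hn hT hPp (hTC.trans (Subgroup.map_subtype_le _)) hPH
  haveI := hCc
  have hS1 := kappaStar_ne_bot hG hM hKU.hall hK1
  have hSZ : S = Z := by
    have h1 : S ≤ Z := by
      have h := decomp_star_le_derived hG hM hKU hU
      exact h.trans (((Subgroup.commutator_mono hC hC).trans (commutator_sup_le_of_commute hCP)).trans hPP)
    refine Subgroup.eq_of_le_of_card_ge h1 ?_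
    rw [hZc]
    have h := Subgroup.card_dvd_of_le h1
    rw [hZc] at h
    rcases (Nat.dvd_prime (Fact.out : p.Prime)).1 h with e | e
    · exact absurd (Subgroup.card_eq_one.1 e) hS1
    · exact e.ge
  -- the centre of `P` is `Z`
  set V := P ⊓ Subgroup.centralizer (P : Set G) with hV
  haveI : IsMulCommutative V := ⟨⟨fun a b => Subtype.ext (Subgroup.mem_centralizer_iff.1 b.2.2 a a.2.1)⟩⟩
  have hP₂V : P₂ ≤ V := by
    refine le_inf hP₂P ?_
    rw [← hsup]
    exact Subgroup.le_centralizer_iff.1 (sup_le hP₁₂ (Subgroup.le_centralizer P₂))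
  have hZ1 : Subgroup.closure {a : G | a ∈ P₂ ∧ a ^ p = 1} = Z := hcl.trans hZeq.symm
  have hVS : V ≤ S := by
    refine le_inf (inf_le_left.trans hPH) (Subgroup.le_centralizer_iff.1 ?_)
    refine CoprimeAction.le_centralizer_of_fixes_prime_order ?_ ?_ fun v hv hvo a ha => ?_
    · rw [Subgroup.le_normalizer_iff]
      refine fun a ha v hv => ⟨(Subgroup.mem_normalizer_iff.1 (hKn ha) v).1 hv.1,
        Subgroup.mem_centralizer_iff.2 fun h hh => ?_⟩
      have h1 : a⁻¹ * h * a ∈ P := (Subgroup.mem_normalizer_iff''.1 (hKn ha) h).1 hh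
      have h2 := Subgroup.mem_centralizer_iff.1 hv.2 _ h1
      calc h * (a * v * a⁻¹) = a * ((a⁻¹ * h * a) * v) * a⁻¹ := by group
        _ = a * (v * (a⁻¹ * h * a)) * a⁻¹ := by rw [h2]
        _ = a * v * a⁻¹ * h := by group
    · obtain ⟨n, hn'⟩ := (hPp.to_le (inf_le_left : V ≤ P)).exists_card_eq
      rw [hn']
      exact hcopK.pow_right n
    · have hvp : v ^ p = 1 := by
        obtain ⟨n, hn'⟩ := IsPGroup.iff_orderOf.1 hPp ⟨v, hv.1⟩
        rw [Subgroup.orderOf_mk] at hn'
        have hd : orderOf v ∣ p := by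
          rw [hn'] at hvo ⊢
          rw [(Nat.prime_dvd_prime_iff_eq hvo Fact.out).1 (hvo.dvd_of_dvd_pow (dvd_refl _))]
        exact orderOf_dvd_iff_pow_eq_one.1 hd
      obtain ⟨a', ha', b', hb', rfl⟩ := CoprimeAction.exists_mul_of_mem_sup
        (hP₁₂.trans (Subgroup.centralizer_le_normalizer _)) (hsup.ge hv.1)
      have haZ : a' ∈ Z := by
        rw [hZeq]
        refine ⟨ha', Subgroup.mem_centralizer_iff.2 fun h hh => ?_⟩
        have hb'V := Subgroup.mem_centralizer_iff.1 (hP₂V hb').2 h (hP₁P hh)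
        have hv' := Subgroup.mem_centralizer_iff.1 hv.2 h (hP₁P hh)
        calc h * a' = h * (a' * b') * b'⁻¹ := by group
          _ = a' * b' * h * b'⁻¹ := by rw [hv']
          _ = a' * (b' * h) * b'⁻¹ := by group
          _ = a' * (h * b') * b'⁻¹ := by rw [hb'V]
          _ = a' * h := by group
      have hap : a' ^ p = 1 := by
        rw [← hexp]
        exact congrArg Subtype.val (Monoid.pow_exponent_eq_one (⟨a', ha'⟩ : ↥P₁))
      have hbp : b' ^ p = 1 := by
        have h := (show Commute a' b' from hcomm a' ha' b' hb').mul_pow p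
        rw [hvp, hap, one_mul] at h
        exact h.symm
      have hvS : a' * b' ∈ S := hSZ ▸ mul_mem haZ (hZ1 ▸ Subgroup.subset_closure ⟨hb', hbp⟩)
      exact Subgroup.mem_centralizer_iff.1 hvS.2 a ha
  have hP₂₁ : P₂ ≤ P₁ := (hP₂V.trans (hVS.trans hSZ.le)).trans (Subgroup.map_subtype_le _)
  have hP₁eq : P₁ = P := by rw [← hsup, sup_eq_left.2 hP₂₁]
  subst hP₁eq
  rcases CfsgLib.ExtraCyclic.extraspecial_order_dvd P₁ K hex 1 hcard hKU.cyclic hcopK hKn (fun k hk hk1 =>
    le_antisymm ((inf_le_inf_right _ hPH).trans ((hlines k hk hk1).trans hSZ.le))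
      (le_inf (Subgroup.map_subtype_le _) (hSZ.ge.trans (inf_le_right.trans
        (Subgroup.centralizer_le (Set.singleton_subset_iff.2 hk)))))) with h | h
  · exact Or.inr ⟨hcard, by simpa using h⟩
  · exact Or.inl (by simpa using h)

theorem type_five_iff (hG : Cfsg.IsMinSimpleOddOrder G) (hM : IsCoatom M)
    (hKU : Cfsg.IsSigmaDecomposition M K U) :
    Cfsg.IsOfTypeV M ↔ (K ≠ ⊥ ∧ U = ⊥ ∧ Cfsg.fittingHallOf M = Cfsg.sigmaCore M) := by
  constructor
  · rintro ⟨W₁, V, W₂, hP, hV, -⟩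
    have hK1 := ne_bot_of_typeP hG hM hKU hP
    have hle : ⁅M, M⁆ ≤ Cfsg.fittingHallOf M := fun m hm => by
      obtain ⟨a, ha, b, hb, rfl⟩ := hP.U_compl.2.2.2 m hm
      rw [hV, Subgroup.mem_bot] at hb
      rwa [hb, mul_one]
    have hHσ := fittingHallOf_le_sigmaCore hG hM
    refine ⟨hK1, le_bot_iff.1 ?_, le_antisymm hHσ ((sigmaCore_le_derived hG hM).trans hle)⟩
    rw [← hKU.compl.2.2.1]
    exact le_inf le_rfl (((u_le_derived hG hM hKU hK1).trans (hle.trans hHσ)).trans le_sup_right)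
  rintro ⟨hK1, hU, hHσ⟩
  have hn := (fittingHallOf_eq_iff hG hM).1 hHσ
  have hder := decomp_derived hG hM hKU hK1
  rw [hU, bot_sup_eq] at hder
  have hcompl : Cfsg.IsComplIn (Cfsg.fittingHallOf M) ⊥ ⁅M, M⁆ := by
    rw [hHσ, hder]
    exact ⟨le_rfl, bot_le, inf_bot_eq _, fun m hm => ⟨m, hm, 1, one_mem _, (mul_one m).symm⟩⟩
  have hP := typeP_of_decomp hG hM hKU hK1 (V := ⊥) inferInstance
    (fun _ _ => Subgroup.mem_normalizer_iff.2 fun y => by simp) hcompl
  refine ⟨K, ⊥, _, hP, rfl, ?_⟩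
  rw [hHσ]
  set H := Cfsg.sigmaCore M with hH
  by_cases hTI : Cfsg.IsTISubset (H : Set G)
  · exact Or.inl hTI
  refine Or.inr ?_
  simp only [Cfsg.IsTISubset, not_forall] at hTI
  obtain ⟨g, hg, x, hx, hgx, hx1⟩ := hTI
  have hgM : g ∉ M := fun h => hg (le_normalizer_sigmaCore M h)
  obtain ⟨p, hp, hd⟩ := Nat.exists_prime_and_dvd fun e => hx1 (orderOf_eq_one_iff.1 e)
  haveI := Fact.mk hp
  obtain ⟨y, hy, hyo⟩ := exists_elem_prime (p := p) (H := Subgroup.zpowers x) (by rwa [Nat.card_zpowers])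
  have hyH : y ∈ H := Subgroup.zpowers_le.2 hx hy
  have hgy : g * y * g⁻¹ ∈ H := by
    obtain ⟨i, rfl⟩ := Subgroup.mem_zpowers_iff.1 hy
    rw [← conj_zpow]
    exact zpow_mem hgx i
  have hab : ¬ IsMulCommutative ↥H := fun hab => by
    haveI := hab
    refine kappaStar_ne_bot hG hM hKU.hall hK1 (le_bot_iff.1 ?_)
    refine (decomp_star_le_derived hG hM hKU hU).trans (le_of_eq ?_)
    exact Subgroup.commutator_eq_bot_iff_le_centralizer.2 fun a ha =>
      Subgroup.mem_centralizer_iff.2 fun b hb => setLike_mul_comm hb ha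
  obtain ⟨hps, hb, P, hPp, hPH, hPna, hPi, hPmax, hcyc⟩ := shared_element_data hG hM hn hab hyH hyo hgM hgy
  have hpH : p ∣ Nat.card H := hyo ▸ Subgroup.orderOf_dvd_natCard H hyH
  haveI := hn
  haveI : IsZGroup ↥(Cfsg.pPrimeCore p ↥H) := ⟨fun t ht T => by
    haveI := Fact.mk ht
    by_cases htp : t = p
    · subst htp
      have h1 : (T : Subgroup ↥(Cfsg.pPrimeCore t ↥H)) = ⊥ := by
        by_contra h
        exact PCore.not_dvd_card_pPrimeCore t ↥H ((dvd_card_of_ne_bot T.isPGroup' h).trans (Subgroup.card_subgroup_dvd_card _))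
      rw [h1]; infer_instance
    haveI := hcyc t _ ht htp ((T.isPGroup'.map (Cfsg.pPrimeCore p ↥H).subtype).map H.subtype) (Subgroup.map_subtype_le _)
    exact isCyclic_of_surjective
      ((((T : Subgroup ↥(Cfsg.pPrimeCore p ↥H)).equivMapOfInjective _ (Cfsg.pPrimeCore p ↥H).subtype_injective).trans
        (Subgroup.equivMapOfInjective _ _ H.subtype_injective)).symm) (MulEquiv.surjective _)⟩
  have hpc : IsCyclic ↥(Cfsg.pPrimeCore p ↥H) := inferInstance
  rcases kappa_card_dvd hG hM hKU hK1 hU hn hps hb hPp hPH hPna hPi hPmax hcyc with h | ⟨h3, h⟩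
  · exact Or.inl ⟨p, hp, hpH, h, hpc⟩
  · refine Or.inr ⟨p, hp, hpH, ?_, h, hpc⟩
    have he : (Cfsg.pCore p ↥H).map H.subtype = P := by
      refine le_antisymm (hPmax _ ((CfsgLib.Components.pCore_isPGroup p).map _) (Subgroup.map_subtype_le _)) ?_
      rw [← Subgroup.map_subgroupOf_eq_of_le hPH]
      refine Subgroup.map_mono ?_
      obtain ⟨R₀⟩ : Nonempty (Sylow p ↥H) := inferInstance
      have hiff := (Group.isNilpotent_of_finite_tfae (G := ↥H)).out 0 3
      haveI hR₀ : (R₀ : Subgroup ↥H).Normal := hiff.1 hn p inferInstance R₀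
      exact (Hall.sylow_le_of_normal_not_dvd (R₀ : Subgroup ↥H) R₀.not_dvd_index
        (hPp.of_equiv (Subgroup.subgroupOfEquivOfLe hPH).symm)).trans (CfsgLib.Components.le_pCore hR₀ R₀.isPGroup')
    rw [← he, Subgroup.card_map_of_injective H.subtype_injective] at h3
    exact h3

end CfsgLib.BGFifteen
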