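import Cfsg.Agent.BGFifteen.TypeData
import Cfsg.Agent.S1363

/-!
B&G 16: types III and IV; the core `M_s`.
-/

set_option autoImplicit false
set_option linter.unusedSectionVars false
set_option linter.style.haveILetI false

namespace CfsgLib.BGFifteen

open CfsgLib.BenderUnique CfsgLib.Uniq CfsgLib.SigmaGroups
open scoped commutatorElement

variable {G : Type*} [Group G] [Finite G] {M K U V : Subgroup G}

theorem type_three_four_iff (hG : Cfsg.IsMinSimpleOddOrder G) (hM : IsCoatom M)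
    (hKU : Cfsg.IsSigmaDecomposition M K U) :
    (Cfsg.IsOfTypeIII M ∨ Cfsg.IsOfTypeIV M) ↔
      (K ≠ ⊥ ∧ U = ⊥ ∧ Cfsg.fittingHallOf M ≠ Cfsg.sigmaCore M) := by
  constructor
  · intro h
    obtain ⟨W₁, V, W₂, hP, hV1, hN⟩ : ∃ W₁ V W₂ : Subgroup G, Cfsg.IsTypePWith M W₁ V W₂ ∧ V ≠ ⊥ ∧
        Subgroup.normalizer (V : Set G) ≤ M := by
      rcases h with ⟨W₁, V, W₂, hP, hV1, -, -, -, hN⟩ | ⟨W₁, V, W₂, hP, hV1, -, -, -, hN⟩ <;>
        exact ⟨W₁, V, W₂, hP, hV1, hN⟩
    have hK1 := ne_bot_of_typeP hG hM hKU hP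
    have hU : U = ⊥ := by_contra fun hU1 => not_normalizer_le hG hM hKU hK1 hU1 hP.U_compl
      (Cfsg.Agent.S1363.result hG M hM K U hKU hK1).2 hN
    refine ⟨hK1, hU, fun he => hV1 ?_⟩
    have hder := decomp_derived hG hM hKU hK1
    rw [hU, bot_sup_eq] at hder
    have hb := hP.U_compl.2.2.1
    rw [he, ← hder] at hb
    rwa [inf_eq_right.2 hP.U_compl.2.1] at hb
  · rintro ⟨hK1, hU, hne⟩
    have hder := decomp_derived hG hM hKU hK1
    rw [hU, bot_sup_eq] at hder
    haveI := isSolvable_of_ne_top hG hM.1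
    have hHσ := fittingHallOf_le_sigmaCore hG hM
    have hcop : (Nat.card ↥(Cfsg.fittingHallOf M)).Coprime ((Cfsg.fittingHallOf M).relIndex M) := by
      rw [Cfsg.fittingHallOf, Subgroup.card_map_of_injective M.subtype_injective, Subgroup.relIndex,
        Subgroup.subgroupOf, Subgroup.comap_map_eq_self_of_injective M.subtype_injective]
      exact CfsgLib.TypeP.fittingHall_coprime ↥M
    obtain ⟨V, hHV, hKV, hVH⟩ := exists_complement_invariant hHσ (Subgroup.map_subtype_le _) hKU.hall.1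
      (le_normalizer_fittingHallOf M) (le_normalizer_sigmaCore M) hcop
      (Nat.coprime_of_dvd fun t ht h1 h2 => (hKU.hall.2.1 t ht h1).2.2.1
        (mem_sigma_of_dvd M ht (h2.trans (Subgroup.card_dvd_of_le hHσ))))
    rw [← hder] at hHV
    have hVM : V ≤ M := hHV.2.1.trans (Subgroup.commutator_le_self M)
    have hV1 : V ≠ ⊥ := by
      rintro rfl
      refine hne (le_antisymm hHσ fun x hx => ?_)
      obtain ⟨a, ha, b, hb, rfl⟩ := hHV.2.2.2 x (hder.ge hx)
      rw [Subgroup.mem_bot] at hb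
      rwa [hb, mul_one]
    have hVn : Group.IsNilpotent ↥V := by
      haveI := (derived_mod hG hM).2
      have hVc : V.subgroupOf M ≤ commutator ↥M := fun x hx => by
        have h : (x : G) ∈ ⁅M, M⁆ := hHV.2.1 hx
        rw [← Subgroup.map_subtype_commutator] at h
        obtain ⟨y, hy, hyx⟩ := h
        rwa [← M.subtype_injective hyx]
      let f : ↥(V.subgroupOf M) →* ↥((commutator ↥M).map (QuotientGroup.mk' (Cfsg.fittingHall ↥M))) :=
        ((QuotientGroup.mk' (Cfsg.fittingHall ↥M)).subgroupMap (commutator ↥M)).comp (Subgroup.inclusion hVc)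
      haveI : Group.IsNilpotent ↥(V.subgroupOf M) := CfsgLib.CN.MinOdd.isNilpotent_of_inj f fun a b hab => by
        have h := (QuotientGroup.eq (s := Cfsg.fittingHall ↥M)).1 (congrArg Subtype.val hab)
        have h2 : (((a : ↥M)⁻¹ * (b : ↥M) : ↥M) : G) ∈ Cfsg.fittingHallOf M ⊓ V :=
          ⟨⟨_, h, rfl⟩, V.mul_mem (V.inv_mem a.2) b.2⟩
        rw [hHV.2.2.1, Subgroup.mem_bot] at h2
        exact Subtype.ext (inv_mul_eq_one.1 (Subtype.ext h2))
      exact Group.nilpotent_of_mulEquiv (Subgroup.subgroupOfEquivOfLe hVM)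
    have hP := typeP_of_decomp hG hM hKU hK1 hVn hKV hHV
    obtain ⟨-, hTI, hprime⟩ := fittingHall_ne_data hG hM hKU hne
    have hN := normalizer_le_of_u_bot hG hM hder hHV hVn hV1
    by_cases hc : IsMulCommutative V
    · exact Or.inl ⟨K, V, _, hP, hV1, hprime, hTI, hc, hN⟩
    · exact Or.inr ⟨K, V, _, hP, hV1, hprime, hTI, hc, hN⟩

theorem typeCore_eq (hG : Cfsg.IsMinSimpleOddOrder G) (hM : IsCoatom M) :
    Cfsg.typeCore M = Cfsg.fittingHallOf M ∨ Cfsg.typeCore M = Cfsg.sigmaCore M := by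
  classical
  by_cases h : Cfsg.IsOfTypeIII M ∨ Cfsg.IsOfTypeIV M
  · obtain ⟨K, U, hKU⟩ := exists_decomp_any hG hM
    obtain ⟨hK1, hU, -⟩ := (type_three_four_iff hG hM hKU).1 h
    have hder := decomp_derived hG hM hKU hK1
    rw [hU, bot_sup_eq] at hder
    exact Or.inr (by rw [Cfsg.typeCore, if_pos h, hder])
  · exact Or.inl (by rw [Cfsg.typeCore, if_neg h])

theorem sigma_hall_data (hG : Cfsg.IsMinSimpleOddOrder G) (hM : IsCoatom M) {W : Subgroup G}
    (hW : W = Cfsg.fittingHallOf M ∨ W = Cfsg.sigmaCore M) :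
    (∀ (p : ℕ), p.Prime → ∀ P : Sylow p ↥W, (P : Subgroup ↥W) ≠ ⊥ →
        Subgroup.normalizer ((((P : Subgroup ↥W).map W.subtype : Subgroup G)) : Set G) ≤ M) ∧
      (Nat.card W).Coprime W.index := by
  have hWσ : W ≤ Cfsg.sigmaCore M := by
    rcases hW with rfl | rfl
    · exact fittingHallOf_le_sigmaCore hG hM
    · exact le_rfl
  have hWM : W ≤ M := hWσ.trans (Subgroup.map_subtype_le _)
  have hi : ∀ t : ℕ, t.Prime → t ∣ Nat.card W → ¬ t ∣ W.relIndex M := fun t ht hd h => by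
    rcases hW with rfl | rfl
    · rw [Cfsg.fittingHallOf, Subgroup.card_map_of_injective M.subtype_injective] at hd
      rw [Cfsg.fittingHallOf, Subgroup.relIndex, Subgroup.subgroupOf,
        Subgroup.comap_map_eq_self_of_injective M.subtype_injective] at h
      exact Nat.not_coprime_of_dvd_of_dvd ht.one_lt hd h (CfsgLib.TypeP.fittingHall_coprime ↥M)
    · exact (sigmaCore_hallOf hG hM).2.2 t ht (mem_sigma_of_dvd M ht hd) h
  have key : ∀ t : ℕ, t.Prime → t ∣ Nat.card W → ∀ T : Sylow t ↥W,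
      Subgroup.normalizer (((T : Subgroup ↥W).map W.subtype : Subgroup G) : Set G) ≤ M ∧ ¬ t ∣ W.index := by
    intro t ht hd T
    haveI := Fact.mk ht
    exact sigma_sylow_data hWM (hi t ht hd) (mem_sigma_of_dvd M ht (hd.trans (Subgroup.card_dvd_of_le hWσ))) T
  refine ⟨fun p hp P hP1 => ?_, Nat.coprime_of_dvd fun t ht h1 h2 => ?_⟩
  · haveI := Fact.mk hp
    exact (key p hp ((dvd_card_of_ne_bot P.isPGroup' hP1).trans (Subgroup.card_subgroup_dvd_card _)) P).1
  · haveI := Fact.mk ht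
    obtain ⟨T⟩ : Nonempty (Sylow t ↥W) := inferInstance
    exact (key t ht h1 T).2 h2

end CfsgLib.BGFifteen
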